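import Cfsg.Agent.Lib.KnownSimple.Fi22P.Fact5_0
import Cfsg.Agent.Lib.KnownSimple.Fi22P.Fact5_1

/-!
# A coset enumeration
-/

set_option autoImplicit false

namespace Cfsg.Agent.Lib.KnownSimple.Fi22P

open Cfsg Cfsg.Spor Cfsg.Agent.Lib.Compute Cfsg.Agent.Lib.KnownSimple.PE Cfsg.Agent.Lib.KnownSimple.Leech
open Cfsg.Agent.Lib.KnownSimple Cfsg.Agent.Lib.KnownSimple.AutRigid Cfsg.Agent.Lib.KnownSimple.Pres


theorem facts5 : allBelow (Cert.factOK C5) K5 = true :=
  allBelow_of_pad (m := 56) (s := 2584) (by norm_num) (fun c hc => by
    interval_cases c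
    · exact fc5_0
    · exact fc5_1
    · exact fc5_2
    · exact fc5_3
    · exact fc5_4
    · exact fc5_5
    · exact fc5_6
    · exact fc5_7
    · exact fc5_8
    · exact fc5_9
    · exact fc5_10
    · exact fc5_11
    · exact fc5_12
    · exact fc5_13
    · exact fc5_14
    · exact fc5_15
    · exact fc5_16
    · exact fc5_17
    · exact fc5_18
    · exact fc5_19
    · exact fc5_20
    · exact fc5_21
    · exact fc5_22
    · exact fc5_23
    · exact fc5_24
    · exact fc5_25
    · exact fc5_26
    · exact fc5_27
    · exact fc5_28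
    · exact fc5_29
    · exact fc5_30
    · exact fc5_31
    · exact fc5_32
    · exact fc5_33
    · exact fc5_34
    · exact fc5_35
    · exact fc5_36
    · exact fc5_37
    · exact fc5_38
    · exact fc5_39
    · exact fc5_40
    · exact fc5_41
    · exact fc5_42
    · exact fc5_43
    · exact fc5_44
    · exact fc5_45
    · exact fc5_46
    · exact fc5_47
    · exact fc5_48
    · exact fc5_49
    · exact fc5_50
    · exact fc5_51
    · exact fc5_52
    · exact fc5_53
    · exact fc5_54
    · exact fc5_55
  )
set_option maxHeartbeats 0 in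
set_option maxRecDepth 100000 in
theorem ec5_0 : chunk (padB 14080 (fun i => allBelow (fun g => Cert.entry C5 14080 K5 g i) 9)) 2584 0 = true := by decide +kernel
set_option maxHeartbeats 0 in
set_option maxRecDepth 100000 in
theorem ec5_1 : chunk (padB 14080 (fun i => allBelow (fun g => Cert.entry C5 14080 K5 g i) 9)) 2584 1 = true := by decide +kernel
set_option maxHeartbeats 0 in
set_option maxRecDepth 100000 in
theorem ec5_2 : chunk (padB 14080 (fun i => allBelow (fun g => Cert.entry C5 14080 K5 g i) 9)) 2584 2 = true := by decide +kernel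
set_option maxHeartbeats 0 in
set_option maxRecDepth 100000 in
theorem ec5_3 : chunk (padB 14080 (fun i => allBelow (fun g => Cert.entry C5 14080 K5 g i) 9)) 2584 3 = true := by decide +kernel
set_option maxHeartbeats 0 in
set_option maxRecDepth 100000 in
theorem ec5_4 : chunk (padB 14080 (fun i => allBelow (fun g => Cert.entry C5 14080 K5 g i) 9)) 2584 4 = true := by decide +kernel
set_option maxHeartbeats 0 in
set_option maxRecDepth 100000 in
theorem ec5_5 : chunk (padB 14080 (fun i => allBelow (fun g => Cert.entry C5 14080 K5 g i) 9)) 2584 5 = true := by decide +kernel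

theorem entries5 : allBelow (fun i => allBelow (fun g => Cert.entry C5 14080 K5 g i) 9) 14080 = true :=
  allBelow_of_pad (m := 6) (s := 2584) (by norm_num) (fun c hc => by
    interval_cases c
    · exact ec5_0
    · exact ec5_1
    · exact ec5_2
    · exact ec5_3
    · exact ec5_4
    · exact ec5_5
  )

end Cfsg.Agent.Lib.KnownSimple.Fi22P
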