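import Cfsg.Agent.Lib.KnownSimple.Fi22P.Cert0
import Cfsg.Agent.Lib.KnownSimple.Fi22P.Cert1
import Cfsg.Agent.Lib.KnownSimple.Fi22P.Cert2
import Cfsg.Agent.Lib.KnownSimple.Fi22P.Cert3
import Cfsg.Agent.Lib.KnownSimple.Fi22P.Cert4
import Cfsg.Agent.Lib.KnownSimple.Fi22P.Cert5

/-!
# A bound for the order of the presented group
-/

set_option autoImplicit false

namespace Cfsg.Agent.Lib.KnownSimple.Fi22P

open Cfsg Cfsg.Spor Cfsg.Agent.Lib.Compute Cfsg.Agent.Lib.KnownSimple.PE Cfsg.Agent.Lib.KnownSimple.Leech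
open Cfsg.Agent.Lib.KnownSimple Cfsg.Agent.Lib.KnownSimple.AutRigid Cfsg.Agent.Lib.KnownSimple.Pres

theorem bd0 : Finite (Subgroup.closure (v '' {g | g < 4})) ∧
    Nat.card (Subgroup.closure (v '' {g | g < 4})) ≤ 120 := by
  have h := S.step C0 (⊥ : Subgroup P) (K := K0) (n := 120) (ng := 4) (by decide +kernel) (fun _ => rfl) words0
    (fun a ha => Bool.noConfusion ha) (by decide +kernel) facts0 (by norm_num) (by decide +kernel) entries0
  rw [Subgroup.card_bot, mul_one] at h
  exact h
theorem bd1 : Finite (Subgroup.closure (v '' {g | g < 5})) ∧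
    Nat.card (Subgroup.closure (v '' {g | g < 5})) ≤ 1920 := by
  haveI := bd0.1
  have h := S.step C1 (Subgroup.closure (v '' {g | g < 4})) (K := K1) (n := 16) (ng := 5) (by decide +kernel) (fun _ => rfl) words1
    (fun a ha => Subgroup.subset_closure ⟨a, by simpa [C1, Nat.blt_eq] using ha, rfl⟩) (by decide +kernel) facts1 (by norm_num) (by decide +kernel) entries1
  exact ⟨h.1, (h.2.trans (Nat.mul_le_mul_left _ bd0.2)).trans (by norm_num)⟩
theorem bd2 : Finite (Subgroup.closure (v '' {g | g < 6})) ∧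
    Nat.card (Subgroup.closure (v '' {g | g < 6})) ≤ 51840 := by
  haveI := bd1.1
  have h := S.step C2 (Subgroup.closure (v '' {g | g < 5})) (K := K2) (n := 27) (ng := 6) (by decide +kernel) (fun _ => rfl) words2
    (fun a ha => Subgroup.subset_closure ⟨a, by simpa [C2, Nat.blt_eq] using ha, rfl⟩) (by decide +kernel) facts2 (by norm_num) (by decide +kernel) entries2
  exact ⟨h.1, (h.2.trans (Nat.mul_le_mul_left _ bd1.2)).trans (by norm_num)⟩
theorem bd3 : Finite (Subgroup.closure (v '' {g | g < 7})) ∧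
    Nat.card (Subgroup.closure (v '' {g | g < 7})) ≤ 1451520 := by
  haveI := bd2.1
  have h := S.step C3 (Subgroup.closure (v '' {g | g < 6})) (K := K3) (n := 28) (ng := 7) (by decide +kernel) (fun _ => rfl) words3
    (fun a ha => Subgroup.subset_closure ⟨a, by simpa [C3, Nat.blt_eq] using ha, rfl⟩) (by decide +kernel) facts3 (by norm_num) (by decide +kernel) entries3
  exact ⟨h.1, (h.2.trans (Nat.mul_le_mul_left _ bd2.2)).trans (by norm_num)⟩
theorem bd4 : Finite (Subgroup.closure (v '' {g | g < 8})) ∧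
    Nat.card (Subgroup.closure (v '' {g | g < 8})) ≤ 4585351680 := by
  haveI := bd3.1
  have h := S.step C4 (Subgroup.closure (v '' {g | g < 7})) (K := K4) (n := 3159) (ng := 8) (by decide +kernel) (fun _ => rfl) words4
    (fun a ha => Subgroup.subset_closure ⟨a, by simpa [C4, Nat.blt_eq] using ha, rfl⟩) (by decide +kernel) facts4 (by norm_num) (by decide +kernel) entries4
  exact ⟨h.1, (h.2.trans (Nat.mul_le_mul_left _ bd3.2)).trans (by norm_num)⟩
theorem bd5 : Finite (Subgroup.closure (v '' {g | g < 9})) ∧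
    Nat.card (Subgroup.closure (v '' {g | g < 9})) ≤ 64561751654400 := by
  haveI := bd4.1
  have h := S.step C5 (Subgroup.closure (v '' {g | g < 8})) (K := K5) (n := 14080) (ng := 9) (by decide +kernel) (fun _ => rfl) words5
    (fun a ha => Subgroup.subset_closure ⟨a, by simpa [C5, Nat.blt_eq] using ha, rfl⟩) (by decide +kernel) facts5 (by norm_num) (by decide +kernel) entries5
  exact ⟨h.1, (h.2.trans (Nat.mul_le_mul_left _ bd4.2)).trans (by norm_num)⟩

theorem finite_P : Finite P ∧ Nat.card P ≤ 64561751654400 :=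
  finite_of_top S.closure_top bd5

end Cfsg.Agent.Lib.KnownSimple.Fi22P
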