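import Cfsg.Agent.Lib.KnownSimple.Fi22P.Strong

/-!
# The stabiliser chain
-/

set_option autoImplicit false

namespace Cfsg.Agent.Lib.KnownSimple.Fi22P

open Cfsg Cfsg.Spor Cfsg.Agent.Lib.Compute Cfsg.Agent.Lib.KnownSimple.PE Cfsg.Agent.Lib.KnownSimple.Leech
open Cfsg.Agent.Lib.KnownSimple Cfsg.Agent.Lib.KnownSimple.AutRigid Cfsg.Agent.Lib.KnownSimple.Pres

/-- Generators of a stabiliser. -/
def SS1 : Set (Equiv.Perm (Fin N)) := {((R13 : G) : Equiv.Perm (Fin N)), ((R14 : G) : Equiv.Perm (Fin N)), ((R15 : G) : Equiv.Perm (Fin N)), ((R16 : G) : Equiv.Perm (Fin N)), ((R17 : G) : Equiv.Perm (Fin N))}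
/-- A stabiliser. -/
def KK1 : Subgroup (Equiv.Perm (Fin N)) := Subgroup.closure SS1
theorem mem1_13 : ((R13 : G) : Equiv.Perm (Fin N)) ∈ KK1 := Subgroup.subset_closure (by simp [SS1])
theorem mem1_14 : ((R14 : G) : Equiv.Perm (Fin N)) ∈ KK1 := Subgroup.subset_closure (by simp [SS1])
theorem mem1_15 : ((R15 : G) : Equiv.Perm (Fin N)) ∈ KK1 := Subgroup.subset_closure (by simp [SS1])
theorem mem1_16 : ((R16 : G) : Equiv.Perm (Fin N)) ∈ KK1 := Subgroup.subset_closure (by simp [SS1])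
theorem mem1_17 : ((R17 : G) : Equiv.Perm (Fin N)) ∈ KK1 := Subgroup.subset_closure (by simp [SS1])
/-- Generators of a stabiliser. -/
def SS2 : Set (Equiv.Perm (Fin N)) := {((R18 : G) : Equiv.Perm (Fin N)), ((R19 : G) : Equiv.Perm (Fin N)), ((R20 : G) : Equiv.Perm (Fin N)), ((R21 : G) : Equiv.Perm (Fin N)), ((R22 : G) : Equiv.Perm (Fin N)), ((R23 : G) : Equiv.Perm (Fin N)), ((R24 : G) : Equiv.Perm (Fin N))}
/-- A stabiliser. -/
def KK2 : Subgroup (Equiv.Perm (Fin N)) := Subgroup.closure SS2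
theorem mem2_18 : ((R18 : G) : Equiv.Perm (Fin N)) ∈ KK2 := Subgroup.subset_closure (by simp [SS2])
theorem mem2_19 : ((R19 : G) : Equiv.Perm (Fin N)) ∈ KK2 := Subgroup.subset_closure (by simp [SS2])
theorem mem2_20 : ((R20 : G) : Equiv.Perm (Fin N)) ∈ KK2 := Subgroup.subset_closure (by simp [SS2])
theorem mem2_21 : ((R21 : G) : Equiv.Perm (Fin N)) ∈ KK2 := Subgroup.subset_closure (by simp [SS2])
theorem mem2_22 : ((R22 : G) : Equiv.Perm (Fin N)) ∈ KK2 := Subgroup.subset_closure (by simp [SS2])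
theorem mem2_23 : ((R23 : G) : Equiv.Perm (Fin N)) ∈ KK2 := Subgroup.subset_closure (by simp [SS2])
theorem mem2_24 : ((R24 : G) : Equiv.Perm (Fin N)) ∈ KK2 := Subgroup.subset_closure (by simp [SS2])
/-- Generators of a stabiliser. -/
def SS3 : Set (Equiv.Perm (Fin N)) := {((R25 : G) : Equiv.Perm (Fin N)), ((R26 : G) : Equiv.Perm (Fin N)), ((R27 : G) : Equiv.Perm (Fin N)), ((R28 : G) : Equiv.Perm (Fin N)), ((R29 : G) : Equiv.Perm (Fin N)), ((R30 : G) : Equiv.Perm (Fin N)), ((R31 : G) : Equiv.Perm (Fin N)), ((R32 : G) : Equiv.Perm (Fin N))}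
/-- A stabiliser. -/
def KK3 : Subgroup (Equiv.Perm (Fin N)) := Subgroup.closure SS3
theorem mem3_25 : ((R25 : G) : Equiv.Perm (Fin N)) ∈ KK3 := Subgroup.subset_closure (by simp [SS3])
theorem mem3_26 : ((R26 : G) : Equiv.Perm (Fin N)) ∈ KK3 := Subgroup.subset_closure (by simp [SS3])
theorem mem3_27 : ((R27 : G) : Equiv.Perm (Fin N)) ∈ KK3 := Subgroup.subset_closure (by simp [SS3])
theorem mem3_28 : ((R28 : G) : Equiv.Perm (Fin N)) ∈ KK3 := Subgroup.subset_closure (by simp [SS3])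
theorem mem3_29 : ((R29 : G) : Equiv.Perm (Fin N)) ∈ KK3 := Subgroup.subset_closure (by simp [SS3])
theorem mem3_30 : ((R30 : G) : Equiv.Perm (Fin N)) ∈ KK3 := Subgroup.subset_closure (by simp [SS3])
theorem mem3_31 : ((R31 : G) : Equiv.Perm (Fin N)) ∈ KK3 := Subgroup.subset_closure (by simp [SS3])
theorem mem3_32 : ((R32 : G) : Equiv.Perm (Fin N)) ∈ KK3 := Subgroup.subset_closure (by simp [SS3])
/-- Generators of a stabiliser. -/
def SS4 : Set (Equiv.Perm (Fin N)) := {((R33 : G) : Equiv.Perm (Fin N)), ((R34 : G) : Equiv.Perm (Fin N)), ((R35 : G) : Equiv.Perm (Fin N)), ((R36 : G) : Equiv.Perm (Fin N)), ((R37 : G) : Equiv.Perm (Fin N)), ((R38 : G) : Equiv.Perm (Fin N))}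
/-- A stabiliser. -/
def KK4 : Subgroup (Equiv.Perm (Fin N)) := Subgroup.closure SS4
theorem mem4_33 : ((R33 : G) : Equiv.Perm (Fin N)) ∈ KK4 := Subgroup.subset_closure (by simp [SS4])
theorem mem4_34 : ((R34 : G) : Equiv.Perm (Fin N)) ∈ KK4 := Subgroup.subset_closure (by simp [SS4])
theorem mem4_35 : ((R35 : G) : Equiv.Perm (Fin N)) ∈ KK4 := Subgroup.subset_closure (by simp [SS4])
theorem mem4_36 : ((R36 : G) : Equiv.Perm (Fin N)) ∈ KK4 := Subgroup.subset_closure (by simp [SS4])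
theorem mem4_37 : ((R37 : G) : Equiv.Perm (Fin N)) ∈ KK4 := Subgroup.subset_closure (by simp [SS4])
theorem mem4_38 : ((R38 : G) : Equiv.Perm (Fin N)) ∈ KK4 := Subgroup.subset_closure (by simp [SS4])
/-- Generators of a stabiliser. -/
def SS5 : Set (Equiv.Perm (Fin N)) := {((R39 : G) : Equiv.Perm (Fin N)), ((R40 : G) : Equiv.Perm (Fin N)), ((R41 : G) : Equiv.Perm (Fin N))}
/-- A stabiliser. -/
def KK5 : Subgroup (Equiv.Perm (Fin N)) := Subgroup.closure SS5
theorem mem5_39 : ((R39 : G) : Equiv.Perm (Fin N)) ∈ KK5 := Subgroup.subset_closure (by simp [SS5])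
theorem mem5_40 : ((R40 : G) : Equiv.Perm (Fin N)) ∈ KK5 := Subgroup.subset_closure (by simp [SS5])
theorem mem5_41 : ((R41 : G) : Equiv.Perm (Fin N)) ∈ KK5 := Subgroup.subset_closure (by simp [SS5])
/-- A level. -/
noncomputable def L0 : Lev :=
  { b := 1062, D := D_L0, arr := A_L0, w := 20, m := 1048575, mp := 4095, bn := 12, mg := 31, bd := 17,
    fs := lgetD (fun a => a) [T 0, T 1, T 2, T 3, T 4, T 5, T 6, T 7, T 8, cR9, ciR9, cR10, ciR10, cR11, ciR11, cR12, ciR12], gs := lgetD (fun a => a) [T 0, T 1, T 2, T 3, T 4, T 5, T 6, T 7, T 8, ciR9, cR9, ciR10, cR10, ciR11, cR11, ciR12, cR12] }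
/-- The entries of a level, from small blocks. -/
noncomputable def eL0 : ℕ → ℕ := pgetS 20 1048575 EB0
set_option maxRecDepth 100000 in
theorem fast0 : FastLev N L0 eL0 := fastLev_of (by decide +kernel) (by decide +kernel)
theorem tree0 : L0.treeOK N = true := fast0.tree
/-- A level. -/
noncomputable def L1 : Lev :=
  { b := 1061, D := D_L1, arr := A_L1, w := 19, m := 524287, mp := 4095, bn := 12, mg := 7, bd := 15,
    fs := lgetD (fun a => a) [cR13, cR14, cR15, cR16, cR17], gs := lgetD (fun a => a) [ciR13, ciR14, ciR15, ciR16, ciR17] }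
/-- The entries of a level, from small blocks. -/
noncomputable def eL1 : ℕ → ℕ := pgetS 19 524287 EB1
set_option maxRecDepth 100000 in
theorem fast1 : FastLev N L1 eL1 := fastLev_of (by decide +kernel) (by decide +kernel)
theorem tree1 : L1.treeOK N = true := fast1.tree
/-- A level. -/
noncomputable def L2 : Lev :=
  { b := 1593, D := D_L2, arr := A_L2, w := 18, m := 262143, mp := 4095, bn := 12, mg := 7, bd := 15,
    fs := lgetD (fun a => a) [cR18, cR19, cR20, cR21, cR22, cR23, cR24], gs := lgetD (fun a => a) [ciR18, ciR19, ciR20, ciR21, ciR22, ciR23, ciR24] }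
/-- The entries of a level, from small blocks. -/
noncomputable def eL2 : ℕ → ℕ := pgetS 18 262143 EB2
set_option maxRecDepth 100000 in
theorem fast2 : FastLev N L2 eL2 := fastLev_of (by decide +kernel) (by decide +kernel)
theorem tree2 : L2.treeOK N = true := fast2.tree
/-- A level. -/
noncomputable def L3 : Lev :=
  { b := 403, D := D_L3, arr := A_L3, w := 18, m := 262143, mp := 4095, bn := 12, mg := 7, bd := 15,
    fs := lgetD (fun a => a) [cR25, cR26, cR27, cR28, cR29, cR30, cR31, cR32], gs := lgetD (fun a => a) [ciR25, ciR26, ciR27, ciR28, ciR29, ciR30, ciR31, ciR32] }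
/-- The entries of a level, from small blocks. -/
noncomputable def eL3 : ℕ → ℕ := pgetS 18 262143 EB3
set_option maxRecDepth 100000 in
theorem fast3 : FastLev N L3 eL3 := fastLev_of (by decide +kernel) (by decide +kernel)
theorem tree3 : L3.treeOK N = true := fast3.tree
/-- A level. -/
noncomputable def L4 : Lev :=
  { b := 1666, D := D_L4, arr := A_L4, w := 18, m := 262143, mp := 4095, bn := 12, mg := 7, bd := 15,
    fs := lgetD (fun a => a) [cR33, cR34, cR35, cR36, cR37, cR38], gs := lgetD (fun a => a) [ciR33, ciR34, ciR35, ciR36, ciR37, ciR38] }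
/-- The entries of a level, from small blocks. -/
noncomputable def eL4 : ℕ → ℕ := pgetS 18 262143 EB4
set_option maxRecDepth 100000 in
theorem fast4 : FastLev N L4 eL4 := fastLev_of (by decide +kernel) (by decide +kernel)
theorem tree4 : L4.treeOK N = true := fast4.tree
/-- A level. -/
noncomputable def L5 : Lev :=
  { b := 935, D := D_L5, arr := A_L5, w := 17, m := 131071, mp := 4095, bn := 12, mg := 3, bd := 14,
    fs := lgetD (fun a => a) [cR39, cR40, cR41], gs := lgetD (fun a => a) [ciR39, ciR40, ciR41] }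
/-- The entries of a level, from small blocks. -/
noncomputable def eL5 : ℕ → ℕ := pgetS 17 131071 EB5
set_option maxRecDepth 100000 in
theorem fast5 : FastLev N L5 eL5 := fastLev_of (by decide +kernel) (by decide +kernel)
theorem tree5 : L5.treeOK N = true := fast5.tree
theorem gens0 : GensIn E H L0 := by
  intro k
  match k with
  | 0 => exact ⟨_, (D 0).2, code_D 0, codei_D 0⟩
  | 1 => exact ⟨_, (D 1).2, code_D 1, codei_D 1⟩
  | 2 => exact ⟨_, (D 2).2, code_D 2, codei_D 2⟩
  | 3 => exact ⟨_, (D 3).2, code_D 3, codei_D 3⟩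
  | 4 => exact ⟨_, (D 4).2, code_D 4, codei_D 4⟩
  | 5 => exact ⟨_, (D 5).2, code_D 5, codei_D 5⟩
  | 6 => exact ⟨_, (D 6).2, code_D 6, codei_D 6⟩
  | 7 => exact ⟨_, (D 7).2, code_D 7, codei_D 7⟩
  | 8 => exact ⟨_, (D 8).2, code_D 8, codei_D 8⟩
  | 9 => exact ⟨_, (R9 : G).2, code_R9, codei_R9⟩
  | 10 =>
    refine ⟨_, (R9⁻¹ : G).2, codei_R9, ?_⟩
    rw [← Subgroup.coe_inv, inv_inv]
    exact code_R9
  | 11 => exact ⟨_, (R10 : G).2, code_R10, codei_R10⟩
  | 12 =>
    refine ⟨_, (R10⁻¹ : G).2, codei_R10, ?_⟩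
    rw [← Subgroup.coe_inv, inv_inv]
    exact code_R10
  | 13 => exact ⟨_, (R11 : G).2, code_R11, codei_R11⟩
  | 14 =>
    refine ⟨_, (R11⁻¹ : G).2, codei_R11, ?_⟩
    rw [← Subgroup.coe_inv, inv_inv]
    exact code_R11
  | 15 => exact ⟨_, (R12 : G).2, code_R12, codei_R12⟩
  | 16 =>
    refine ⟨_, (R12⁻¹ : G).2, codei_R12, ?_⟩
    rw [← Subgroup.coe_inv, inv_inv]
    exact code_R12
  | (k + 17) =>
    refine ⟨1, H.one_mem, isCode_one E, ?_⟩
    rw [inv_one]
    exact isCode_one E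
theorem gens1 : GensIn E (KK1) L1 := by
  intro k
  match k with
  | 0 => exact ⟨_, mem1_13, code_R13, codei_R13⟩
  | 1 => exact ⟨_, mem1_14, code_R14, codei_R14⟩
  | 2 => exact ⟨_, mem1_15, code_R15, codei_R15⟩
  | 3 => exact ⟨_, mem1_16, code_R16, codei_R16⟩
  | 4 => exact ⟨_, mem1_17, code_R17, codei_R17⟩
  | (k + 5) =>
    refine ⟨1, (KK1).one_mem, isCode_one E, ?_⟩
    rw [inv_one]
    exact isCode_one E
theorem gens2 : GensIn E (KK2) L2 := by
  intro k
  match k with
  | 0 => exact ⟨_, mem2_18, code_R18, codei_R18⟩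
  | 1 => exact ⟨_, mem2_19, code_R19, codei_R19⟩
  | 2 => exact ⟨_, mem2_20, code_R20, codei_R20⟩
  | 3 => exact ⟨_, mem2_21, code_R21, codei_R21⟩
  | 4 => exact ⟨_, mem2_22, code_R22, codei_R22⟩
  | 5 => exact ⟨_, mem2_23, code_R23, codei_R23⟩
  | 6 => exact ⟨_, mem2_24, code_R24, codei_R24⟩
  | (k + 7) =>
    refine ⟨1, (KK2).one_mem, isCode_one E, ?_⟩
    rw [inv_one]
    exact isCode_one E
theorem gens3 : GensIn E (KK3) L3 := by
  intro k
  match k with
  | 0 => exact ⟨_, mem3_25, code_R25, codei_R25⟩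
  | 1 => exact ⟨_, mem3_26, code_R26, codei_R26⟩
  | 2 => exact ⟨_, mem3_27, code_R27, codei_R27⟩
  | 3 => exact ⟨_, mem3_28, code_R28, codei_R28⟩
  | 4 => exact ⟨_, mem3_29, code_R29, codei_R29⟩
  | 5 => exact ⟨_, mem3_30, code_R30, codei_R30⟩
  | 6 => exact ⟨_, mem3_31, code_R31, codei_R31⟩
  | 7 => exact ⟨_, mem3_32, code_R32, codei_R32⟩
  | (k + 8) =>
    refine ⟨1, (KK3).one_mem, isCode_one E, ?_⟩
    rw [inv_one]
    exact isCode_one E
theorem gens4 : GensIn E (KK4) L4 := by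
  intro k
  match k with
  | 0 => exact ⟨_, mem4_33, code_R33, codei_R33⟩
  | 1 => exact ⟨_, mem4_34, code_R34, codei_R34⟩
  | 2 => exact ⟨_, mem4_35, code_R35, codei_R35⟩
  | 3 => exact ⟨_, mem4_36, code_R36, codei_R36⟩
  | 4 => exact ⟨_, mem4_37, code_R37, codei_R37⟩
  | 5 => exact ⟨_, mem4_38, code_R38, codei_R38⟩
  | (k + 6) =>
    refine ⟨1, (KK4).one_mem, isCode_one E, ?_⟩
    rw [inv_one]
    exact isCode_one E
theorem gens5 : GensIn E (KK5) L5 := by
  intro k
  match k with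
  | 0 => exact ⟨_, mem5_39, code_R39, codei_R39⟩
  | 1 => exact ⟨_, mem5_40, code_R40, codei_R40⟩
  | 2 => exact ⟨_, mem5_41, code_R41, codei_R41⟩
  | (k + 3) =>
    refine ⟨1, (KK5).one_mem, isCode_one E, ?_⟩
    rw [inv_one]
    exact isCode_one E
theorem wl5 : WeakLev E (KK5) (⊥ : Subgroup (Equiv.Perm (Fin N))) L5 :=
  weakLev_of_tree (by decide +kernel) gens5 tree5 (by decide +kernel) (by decide +kernel) bot_le (fun σ hσ => by
      rw [Subgroup.mem_bot.1 hσ]
      rfl)
theorem le4 : KK5 ≤ KK4 := by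
  rw [KK5, Subgroup.closure_le]
  rintro s (rfl | rfl | rfl)
  · exact mem4_34
  · exact mem4_36
  · exact (KK4).mul_mem (mem4_38) ((KK4).mul_mem (mem4_38) (mem4_38))
theorem fix4 : ∀ σ ∈ KK5, σ (E.pt 1666) = E.pt 1666 := by
  apply closure_fix
  rintro s (rfl | rfl | rfl)
  · exact fix_of_code code_R39 (by decide +kernel) (by decide +kernel)
  · exact fix_of_code code_R40 (by decide +kernel) (by decide +kernel)
  · exact fix_of_code code_R41 (by decide +kernel) (by decide +kernel)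
theorem wl4 : WeakLev E (KK4) (KK5) L4 :=
  weakLev_of_tree (by decide +kernel) gens4 tree4 (by decide +kernel) (by decide +kernel) le4 fix4
theorem le3 : KK4 ≤ KK3 := by
  rw [KK4, Subgroup.closure_le]
  rintro s (rfl | rfl | rfl | rfl | rfl | rfl)
  · exact mem3_25
  · exact (KK3).mul_mem ((KK3).inv_mem mem3_26) (mem3_29)
  · exact (KK3).mul_mem ((KK3).inv_mem mem3_26) ((KK3).mul_mem ((KK3).inv_mem mem3_25) ((KK3).mul_mem (mem3_28) ((KK3).mul_mem (mem3_25) (mem3_26))))
  · exact (KK3).mul_mem ((KK3).inv_mem mem3_26) ((KK3).mul_mem ((KK3).inv_mem mem3_25) ((KK3).mul_mem (mem3_30) ((KK3).mul_mem (mem3_25) (mem3_26))))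
  · exact (KK3).mul_mem ((KK3).inv_mem mem3_26) ((KK3).mul_mem ((KK3).inv_mem mem3_27) ((KK3).mul_mem (mem3_25) (mem3_32)))
  · exact (KK3).mul_mem (mem3_32) ((KK3).mul_mem (mem3_31) (mem3_28))
theorem fix3 : ∀ σ ∈ KK4, σ (E.pt 403) = E.pt 403 := by
  apply closure_fix
  rintro s (rfl | rfl | rfl | rfl | rfl | rfl)
  · exact fix_of_code code_R33 (by decide +kernel) (by decide +kernel)
  · exact fix_of_code code_R34 (by decide +kernel) (by decide +kernel)
  · exact fix_of_code code_R35 (by decide +kernel) (by decide +kernel)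
  · exact fix_of_code code_R36 (by decide +kernel) (by decide +kernel)
  · exact fix_of_code code_R37 (by decide +kernel) (by decide +kernel)
  · exact fix_of_code code_R38 (by decide +kernel) (by decide +kernel)
theorem wl3 : WeakLev E (KK3) (KK4) L3 :=
  weakLev_of_tree (by decide +kernel) gens3 tree3 (by decide +kernel) (by decide +kernel) le3 fix3
theorem le2 : KK3 ≤ KK2 := by
  rw [KK3, Subgroup.closure_le]
  rintro s (rfl | rfl | rfl | rfl | rfl | rfl | rfl | rfl)
  · exact (KK2).mul_mem ((KK2).inv_mem mem2_18) ((KK2).mul_mem (mem2_21) (mem2_18))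
  · exact (KK2).mul_mem ((KK2).inv_mem mem2_18) ((KK2).mul_mem (mem2_24) (mem2_18))
  · exact (KK2).mul_mem ((KK2).inv_mem mem2_19) ((KK2).mul_mem (mem2_24) (mem2_19))
  · exact (KK2).mul_mem ((KK2).inv_mem mem2_22) ((KK2).mul_mem (mem2_24) (mem2_22))
  · exact (KK2).mul_mem ((KK2).inv_mem mem2_24) ((KK2).mul_mem (mem2_20) (mem2_24))
  · exact (KK2).mul_mem ((KK2).inv_mem mem2_19) ((KK2).mul_mem ((KK2).inv_mem mem2_20) ((KK2).mul_mem (mem2_24) ((KK2).mul_mem (mem2_20) (mem2_19))))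
  · exact (KK2).mul_mem ((KK2).inv_mem mem2_23) ((KK2).mul_mem (mem2_24) (mem2_23))
  · exact (KK2).mul_mem ((KK2).inv_mem mem2_19) ((KK2).mul_mem ((KK2).inv_mem mem2_21) ((KK2).mul_mem ((KK2).inv_mem mem2_19) ((KK2).mul_mem (mem2_24) ((KK2).mul_mem (mem2_23) ((KK2).mul_mem (mem2_22) (mem2_21))))))
theorem fix2 : ∀ σ ∈ KK3, σ (E.pt 1593) = E.pt 1593 := by
  apply closure_fix
  rintro s (rfl | rfl | rfl | rfl | rfl | rfl | rfl | rfl)
  · exact fix_of_code code_R25 (by decide +kernel) (by decide +kernel)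
  · exact fix_of_code code_R26 (by decide +kernel) (by decide +kernel)
  · exact fix_of_code code_R27 (by decide +kernel) (by decide +kernel)
  · exact fix_of_code code_R28 (by decide +kernel) (by decide +kernel)
  · exact fix_of_code code_R29 (by decide +kernel) (by decide +kernel)
  · exact fix_of_code code_R30 (by decide +kernel) (by decide +kernel)
  · exact fix_of_code code_R31 (by decide +kernel) (by decide +kernel)
  · exact fix_of_code code_R32 (by decide +kernel) (by decide +kernel)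
theorem wl2 : WeakLev E (KK2) (KK3) L2 :=
  weakLev_of_tree (by decide +kernel) gens2 tree2 (by decide +kernel) (by decide +kernel) le2 fix2
theorem le1 : KK2 ≤ KK1 := by
  rw [KK2, Subgroup.closure_le]
  rintro s (rfl | rfl | rfl | rfl | rfl | rfl | rfl)
  · exact (KK1).mul_mem ((KK1).inv_mem mem1_14) ((KK1).mul_mem (mem1_13) (mem1_14))
  · exact (KK1).mul_mem (mem1_17) (mem1_14)
  · exact (KK1).mul_mem ((KK1).inv_mem mem1_13) ((KK1).mul_mem ((KK1).inv_mem mem1_15) ((KK1).mul_mem (mem1_17) ((KK1).mul_mem (mem1_15) (mem1_13))))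
  · exact (KK1).mul_mem ((KK1).inv_mem mem1_16) ((KK1).mul_mem ((KK1).inv_mem mem1_15) ((KK1).mul_mem (mem1_13) ((KK1).mul_mem (mem1_15) (mem1_16))))
  · exact (KK1).mul_mem ((KK1).inv_mem mem1_16) ((KK1).mul_mem ((KK1).inv_mem mem1_15) ((KK1).mul_mem (mem1_16) ((KK1).mul_mem (mem1_15) (mem1_16))))
  · exact (KK1).mul_mem ((KK1).inv_mem mem1_13) ((KK1).mul_mem ((KK1).inv_mem mem1_15) ((KK1).mul_mem ((KK1).inv_mem mem1_16) ((KK1).mul_mem ((KK1).inv_mem mem1_15) ((KK1).mul_mem (mem1_16) ((KK1).mul_mem (mem1_15) ((KK1).mul_mem (mem1_16) ((KK1).mul_mem (mem1_15) (mem1_13))))))))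
  · exact (KK1).mul_mem ((KK1).inv_mem mem1_15) ((KK1).mul_mem ((KK1).inv_mem mem1_17) ((KK1).mul_mem ((KK1).inv_mem mem1_13) ((KK1).mul_mem ((KK1).inv_mem mem1_15) ((KK1).mul_mem (mem1_13) ((KK1).mul_mem (mem1_15) ((KK1).mul_mem (mem1_13) ((KK1).mul_mem (mem1_17) (mem1_15))))))))
theorem fix1 : ∀ σ ∈ KK2, σ (E.pt 1061) = E.pt 1061 := by
  apply closure_fix
  rintro s (rfl | rfl | rfl | rfl | rfl | rfl | rfl)
  · exact fix_of_code code_R18 (by decide +kernel) (by decide +kernel)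
  · exact fix_of_code code_R19 (by decide +kernel) (by decide +kernel)
  · exact fix_of_code code_R20 (by decide +kernel) (by decide +kernel)
  · exact fix_of_code code_R21 (by decide +kernel) (by decide +kernel)
  · exact fix_of_code code_R22 (by decide +kernel) (by decide +kernel)
  · exact fix_of_code code_R23 (by decide +kernel) (by decide +kernel)
  · exact fix_of_code code_R24 (by decide +kernel) (by decide +kernel)
theorem wl1 : WeakLev E (KK1) (KK2) L1 :=
  weakLev_of_tree (by decide +kernel) gens1 tree1 (by decide +kernel) (by decide +kernel) le1 fix1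
theorem le0 : KK1 ≤ H := by
  rw [KK1, Subgroup.closure_le]
  rintro s (rfl | rfl | rfl | rfl | rfl)
  · exact (R13 : G).2
  · exact (R14 : G).2
  · exact (R15 : G).2
  · exact (R16 : G).2
  · exact (R17 : G).2
theorem fix0 : ∀ σ ∈ KK1, σ (E.pt 1062) = E.pt 1062 := by
  apply closure_fix
  rintro s (rfl | rfl | rfl | rfl | rfl)
  · exact fix_of_code code_R13 (by decide +kernel) (by decide +kernel)
  · exact fix_of_code code_R14 (by decide +kernel) (by decide +kernel)
  · exact fix_of_code code_R15 (by decide +kernel) (by decide +kernel)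
  · exact fix_of_code code_R16 (by decide +kernel) (by decide +kernel)
  · exact fix_of_code code_R17 (by decide +kernel) (by decide +kernel)
theorem wl0 : WeakLev E (H) (KK1) L0 :=
  weakLev_of_tree (by decide +kernel) gens0 tree0 (by decide +kernel) (by decide +kernel) le0 fix0

/-- The lower levels. -/
noncomputable def Lt : List Lev := [L1, L2, L3, L4, L5]
/-- The levels. -/
noncomputable def Ls : List Lev := L0 :: Lt
theorem wch : WeakChain E (KK1) Lt := ⟨_, wl1, _, wl2, _, wl3, _, wl4, _, wl5, rfl⟩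
set_option maxRecDepth 100000 in
theorem sizes : (Ls.map (Lev.size N)).prod = 64561751654400 := by decide +kernel
theorem main₀ : Function.Injective φ ∧ LevelSem E H (KK1) L0 ∧ ChainSem E (KK1) Lt := by
  haveI := finite_P.1
  refine chain_of_bound' φ wl0 wch ?_
  have h := sizes
  rw [Ls] at h
  rw [h]
  exact finite_P.2
theorem chainH : ChainSem E H Ls := ⟨_, main₀.2.1, main₀.2.2⟩
theorem hinj : Function.Injective φ := main₀.1
theorem lev0 : LevelSem E H (KK1) L0 := main₀.2.1
theorem card_H : Nat.card H = 64561751654400 := by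
  rw [chainH.card_eq, sizes]
theorem based2 : Based E H (basesOf Ls) := based_of_chain chainH
theorem lt2 : ∀ b ∈ basesOf Ls, b < N := bases_lt chainH

/-- The classes of points under the stabiliser of the base point. -/
noncomputable def cl : ℕ → ℕ := pgetS 2 3 clB
/-- The invariant. -/
noncomputable def gr : ℕ → ℕ → ℕ := gramE L0 eL0 cl
theorem hall0 : ∀ i, i < N → tb L0.D i = true := (allBelow_iff _ _).1 (by decide +kernel)
theorem hcl : ∀ σ ∈ KK1, ∀ x, x < N → cl (cdOf E σ x) = cl x := by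
  apply cl_of_gens
  rintro s (rfl | rfl | rfl | rfl | rfl)
  · intro x hx
    rw [cdOf_eq code_R13 hx]
    exact Nat.eq_of_beq_eq_true ((allBelow_iff _ _).1 (by decide +kernel : allBelow (fun x => Nat.beq (cl (cR13 x)) (cl x)) N = true) x hx)
  · intro x hx
    rw [cdOf_eq code_R14 hx]
    exact Nat.eq_of_beq_eq_true ((allBelow_iff _ _).1 (by decide +kernel : allBelow (fun x => Nat.beq (cl (cR14 x)) (cl x)) N = true) x hx)
  · intro x hx
    rw [cdOf_eq code_R15 hx]
    exact Nat.eq_of_beq_eq_true ((allBelow_iff _ _).1 (by decide +kernel : allBelow (fun x => Nat.beq (cl (cR15 x)) (cl x)) N = true) x hx)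
  · intro x hx
    rw [cdOf_eq code_R16 hx]
    exact Nat.eq_of_beq_eq_true ((allBelow_iff _ _).1 (by decide +kernel : allBelow (fun x => Nat.beq (cl (cR16 x)) (cl x)) N = true) x hx)
  · intro x hx
    rw [cdOf_eq code_R17 hx]
    exact Nat.eq_of_beq_eq_true ((allBelow_iff _ _).1 (by decide +kernel : allBelow (fun x => Nat.beq (cl (cR17 x)) (cl x)) N = true) x hx)
theorem grInv : GramInv E H gr := gramInv_E lev0 fast0 hall0 hcl

end Cfsg.Agent.Lib.KnownSimple.Fi22P
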