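import Cfsg.Agent.Lib.KnownSimple.Fi22P.StrongU

/-!
# The stabiliser chain
-/

set_option autoImplicit false

namespace Cfsg.Agent.Lib.KnownSimple.Fi22P

open Cfsg Cfsg.Spor Cfsg.Agent.Lib.Compute Cfsg.Agent.Lib.KnownSimple.PE Cfsg.Agent.Lib.KnownSimple.Leech
open Cfsg.Agent.Lib.KnownSimple Cfsg.Agent.Lib.KnownSimple.AutRigid Cfsg.Agent.Lib.KnownSimple.Pres

/-- Generators of a stabiliser. -/
def SSU1 : Set (Equiv.Perm (Fin N)) := {((RU13 : G) : Equiv.Perm (Fin N)), ((RU14 : G) : Equiv.Perm (Fin N)), ((RU15 : G) : Equiv.Perm (Fin N)), ((RU16 : G) : Equiv.Perm (Fin N)), ((RU17 : G) : Equiv.Perm (Fin N)), ((RU18 : G) : Equiv.Perm (Fin N)), ((RU19 : G) : Equiv.Perm (Fin N)), ((RU20 : G) : Equiv.Perm (Fin N))}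
/-- A stabiliser. -/
def KKU1 : Subgroup (Equiv.Perm (Fin N)) := Subgroup.closure SSU1
theorem memU1_13 : ((RU13 : G) : Equiv.Perm (Fin N)) ∈ KKU1 := Subgroup.subset_closure (by simp [SSU1])
theorem memU1_14 : ((RU14 : G) : Equiv.Perm (Fin N)) ∈ KKU1 := Subgroup.subset_closure (by simp [SSU1])
theorem memU1_15 : ((RU15 : G) : Equiv.Perm (Fin N)) ∈ KKU1 := Subgroup.subset_closure (by simp [SSU1])
theorem memU1_16 : ((RU16 : G) : Equiv.Perm (Fin N)) ∈ KKU1 := Subgroup.subset_closure (by simp [SSU1])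
theorem memU1_17 : ((RU17 : G) : Equiv.Perm (Fin N)) ∈ KKU1 := Subgroup.subset_closure (by simp [SSU1])
theorem memU1_18 : ((RU18 : G) : Equiv.Perm (Fin N)) ∈ KKU1 := Subgroup.subset_closure (by simp [SSU1])
theorem memU1_19 : ((RU19 : G) : Equiv.Perm (Fin N)) ∈ KKU1 := Subgroup.subset_closure (by simp [SSU1])
theorem memU1_20 : ((RU20 : G) : Equiv.Perm (Fin N)) ∈ KKU1 := Subgroup.subset_closure (by simp [SSU1])
/-- Generators of a stabiliser. -/
def SSU2 : Set (Equiv.Perm (Fin N)) := {((RU21 : G) : Equiv.Perm (Fin N)), ((RU22 : G) : Equiv.Perm (Fin N)), ((RU23 : G) : Equiv.Perm (Fin N)), ((RU24 : G) : Equiv.Perm (Fin N)), ((RU25 : G) : Equiv.Perm (Fin N)), ((RU26 : G) : Equiv.Perm (Fin N))}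
/-- A stabiliser. -/
def KKU2 : Subgroup (Equiv.Perm (Fin N)) := Subgroup.closure SSU2
theorem memU2_21 : ((RU21 : G) : Equiv.Perm (Fin N)) ∈ KKU2 := Subgroup.subset_closure (by simp [SSU2])
theorem memU2_22 : ((RU22 : G) : Equiv.Perm (Fin N)) ∈ KKU2 := Subgroup.subset_closure (by simp [SSU2])
theorem memU2_23 : ((RU23 : G) : Equiv.Perm (Fin N)) ∈ KKU2 := Subgroup.subset_closure (by simp [SSU2])
theorem memU2_24 : ((RU24 : G) : Equiv.Perm (Fin N)) ∈ KKU2 := Subgroup.subset_closure (by simp [SSU2])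
theorem memU2_25 : ((RU25 : G) : Equiv.Perm (Fin N)) ∈ KKU2 := Subgroup.subset_closure (by simp [SSU2])
theorem memU2_26 : ((RU26 : G) : Equiv.Perm (Fin N)) ∈ KKU2 := Subgroup.subset_closure (by simp [SSU2])
/-- Generators of a stabiliser. -/
def SSU3 : Set (Equiv.Perm (Fin N)) := {((RU27 : G) : Equiv.Perm (Fin N)), ((RU28 : G) : Equiv.Perm (Fin N)), ((RU29 : G) : Equiv.Perm (Fin N)), ((RU30 : G) : Equiv.Perm (Fin N)), ((RU31 : G) : Equiv.Perm (Fin N)), ((RU32 : G) : Equiv.Perm (Fin N)), ((RU33 : G) : Equiv.Perm (Fin N)), ((RU34 : G) : Equiv.Perm (Fin N))}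
/-- A stabiliser. -/
def KKU3 : Subgroup (Equiv.Perm (Fin N)) := Subgroup.closure SSU3
theorem memU3_27 : ((RU27 : G) : Equiv.Perm (Fin N)) ∈ KKU3 := Subgroup.subset_closure (by simp [SSU3])
theorem memU3_28 : ((RU28 : G) : Equiv.Perm (Fin N)) ∈ KKU3 := Subgroup.subset_closure (by simp [SSU3])
theorem memU3_29 : ((RU29 : G) : Equiv.Perm (Fin N)) ∈ KKU3 := Subgroup.subset_closure (by simp [SSU3])
theorem memU3_30 : ((RU30 : G) : Equiv.Perm (Fin N)) ∈ KKU3 := Subgroup.subset_closure (by simp [SSU3])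
theorem memU3_31 : ((RU31 : G) : Equiv.Perm (Fin N)) ∈ KKU3 := Subgroup.subset_closure (by simp [SSU3])
theorem memU3_32 : ((RU32 : G) : Equiv.Perm (Fin N)) ∈ KKU3 := Subgroup.subset_closure (by simp [SSU3])
theorem memU3_33 : ((RU33 : G) : Equiv.Perm (Fin N)) ∈ KKU3 := Subgroup.subset_closure (by simp [SSU3])
theorem memU3_34 : ((RU34 : G) : Equiv.Perm (Fin N)) ∈ KKU3 := Subgroup.subset_closure (by simp [SSU3])
/-- Generators of a stabiliser. -/
def SSU4 : Set (Equiv.Perm (Fin N)) := {((RU35 : G) : Equiv.Perm (Fin N)), ((RU36 : G) : Equiv.Perm (Fin N)), ((RU37 : G) : Equiv.Perm (Fin N)), ((RU38 : G) : Equiv.Perm (Fin N)), ((RU39 : G) : Equiv.Perm (Fin N)), ((RU40 : G) : Equiv.Perm (Fin N)), ((RU41 : G) : Equiv.Perm (Fin N)), ((RU42 : G) : Equiv.Perm (Fin N)), ((RU43 : G) : Equiv.Perm (Fin N)), ((RU44 : G) : Equiv.Perm (Fin N)), ((RU45 : G) : Equiv.Perm (Fin N))}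
/-- A stabiliser. -/
def KKU4 : Subgroup (Equiv.Perm (Fin N)) := Subgroup.closure SSU4
theorem memU4_35 : ((RU35 : G) : Equiv.Perm (Fin N)) ∈ KKU4 := Subgroup.subset_closure (by simp [SSU4])
theorem memU4_36 : ((RU36 : G) : Equiv.Perm (Fin N)) ∈ KKU4 := Subgroup.subset_closure (by simp [SSU4])
theorem memU4_37 : ((RU37 : G) : Equiv.Perm (Fin N)) ∈ KKU4 := Subgroup.subset_closure (by simp [SSU4])
theorem memU4_38 : ((RU38 : G) : Equiv.Perm (Fin N)) ∈ KKU4 := Subgroup.subset_closure (by simp [SSU4])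
theorem memU4_39 : ((RU39 : G) : Equiv.Perm (Fin N)) ∈ KKU4 := Subgroup.subset_closure (by simp [SSU4])
theorem memU4_40 : ((RU40 : G) : Equiv.Perm (Fin N)) ∈ KKU4 := Subgroup.subset_closure (by simp [SSU4])
theorem memU4_41 : ((RU41 : G) : Equiv.Perm (Fin N)) ∈ KKU4 := Subgroup.subset_closure (by simp [SSU4])
theorem memU4_42 : ((RU42 : G) : Equiv.Perm (Fin N)) ∈ KKU4 := Subgroup.subset_closure (by simp [SSU4])
theorem memU4_43 : ((RU43 : G) : Equiv.Perm (Fin N)) ∈ KKU4 := Subgroup.subset_closure (by simp [SSU4])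
theorem memU4_44 : ((RU44 : G) : Equiv.Perm (Fin N)) ∈ KKU4 := Subgroup.subset_closure (by simp [SSU4])
theorem memU4_45 : ((RU45 : G) : Equiv.Perm (Fin N)) ∈ KKU4 := Subgroup.subset_closure (by simp [SSU4])
/-- Generators of a stabiliser. -/
def SSU5 : Set (Equiv.Perm (Fin N)) := {((RU46 : G) : Equiv.Perm (Fin N)), ((RU47 : G) : Equiv.Perm (Fin N)), ((RU48 : G) : Equiv.Perm (Fin N)), ((RU49 : G) : Equiv.Perm (Fin N)), ((RU50 : G) : Equiv.Perm (Fin N))}
/-- A stabiliser. -/
def KKU5 : Subgroup (Equiv.Perm (Fin N)) := Subgroup.closure SSU5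
theorem memU5_46 : ((RU46 : G) : Equiv.Perm (Fin N)) ∈ KKU5 := Subgroup.subset_closure (by simp [SSU5])
theorem memU5_47 : ((RU47 : G) : Equiv.Perm (Fin N)) ∈ KKU5 := Subgroup.subset_closure (by simp [SSU5])
theorem memU5_48 : ((RU48 : G) : Equiv.Perm (Fin N)) ∈ KKU5 := Subgroup.subset_closure (by simp [SSU5])
theorem memU5_49 : ((RU49 : G) : Equiv.Perm (Fin N)) ∈ KKU5 := Subgroup.subset_closure (by simp [SSU5])
theorem memU5_50 : ((RU50 : G) : Equiv.Perm (Fin N)) ∈ KKU5 := Subgroup.subset_closure (by simp [SSU5])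
/-- Generators of a stabiliser. -/
def SSU6 : Set (Equiv.Perm (Fin N)) := {((RU51 : G) : Equiv.Perm (Fin N)), ((RU52 : G) : Equiv.Perm (Fin N)), ((RU53 : G) : Equiv.Perm (Fin N)), ((RU54 : G) : Equiv.Perm (Fin N)), ((RU55 : G) : Equiv.Perm (Fin N))}
/-- A stabiliser. -/
def KKU6 : Subgroup (Equiv.Perm (Fin N)) := Subgroup.closure SSU6
theorem memU6_51 : ((RU51 : G) : Equiv.Perm (Fin N)) ∈ KKU6 := Subgroup.subset_closure (by simp [SSU6])
theorem memU6_52 : ((RU52 : G) : Equiv.Perm (Fin N)) ∈ KKU6 := Subgroup.subset_closure (by simp [SSU6])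
theorem memU6_53 : ((RU53 : G) : Equiv.Perm (Fin N)) ∈ KKU6 := Subgroup.subset_closure (by simp [SSU6])
theorem memU6_54 : ((RU54 : G) : Equiv.Perm (Fin N)) ∈ KKU6 := Subgroup.subset_closure (by simp [SSU6])
theorem memU6_55 : ((RU55 : G) : Equiv.Perm (Fin N)) ∈ KKU6 := Subgroup.subset_closure (by simp [SSU6])
/-- Generators of a stabiliser. -/
def SSU7 : Set (Equiv.Perm (Fin N)) := {((RU56 : G) : Equiv.Perm (Fin N)), ((RU57 : G) : Equiv.Perm (Fin N))}
/-- A stabiliser. -/
def KKU7 : Subgroup (Equiv.Perm (Fin N)) := Subgroup.closure SSU7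
theorem memU7_56 : ((RU56 : G) : Equiv.Perm (Fin N)) ∈ KKU7 := Subgroup.subset_closure (by simp [SSU7])
theorem memU7_57 : ((RU57 : G) : Equiv.Perm (Fin N)) ∈ KKU7 := Subgroup.subset_closure (by simp [SSU7])
/-- Generators of a stabiliser. -/
def SSU8 : Set (Equiv.Perm (Fin N)) := {((RU58 : G) : Equiv.Perm (Fin N))}
/-- A stabiliser. -/
def KKU8 : Subgroup (Equiv.Perm (Fin N)) := Subgroup.closure SSU8
theorem memU8_58 : ((RU58 : G) : Equiv.Perm (Fin N)) ∈ KKU8 := Subgroup.subset_closure (by simp [SSU8])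
/-- A level. -/
noncomputable def LU0 : Lev :=
  { b := 1317, D := D_LU0, arr := A_LU0, w := 20, m := 1048575, mp := 4095, bn := 12, mg := 31, bd := 17,
    fs := lgetD (fun a => a) [T 0, T 1, T 2, T 3, T 4, T 5, T 6, T 7, T 8, cRU9, ciRU9, cRU10, ciRU10, cRU11, ciRU11, cRU12, ciRU12], gs := lgetD (fun a => a) [T 0, T 1, T 2, T 3, T 4, T 5, T 6, T 7, T 8, ciRU9, cRU9, ciRU10, cRU10, ciRU11, cRU11, ciRU12, cRU12] }
/-- The entries of a level, from small blocks. -/
noncomputable def eLU0 : ℕ → ℕ := pgetS 20 1048575 EBU0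
set_option maxRecDepth 100000 in
theorem fastU0 : FastLev N LU0 eLU0 := fastLev_of (by decide +kernel) (by decide +kernel)
theorem treeU0 : LU0.treeOK N = true := fastU0.tree
/-- A level. -/
noncomputable def LU1 : Lev :=
  { b := 3248, D := D_LU1, arr := A_LU1, w := 19, m := 524287, mp := 4095, bn := 12, mg := 7, bd := 15,
    fs := lgetD (fun a => a) [cRU13, cRU14, cRU15, cRU16, cRU17, cRU18, cRU19, cRU20], gs := lgetD (fun a => a) [ciRU13, ciRU14, ciRU15, ciRU16, ciRU17, ciRU18, ciRU19, ciRU20] }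
/-- The entries of a level, from small blocks. -/
noncomputable def eLU1 : ℕ → ℕ := pgetS 19 524287 EBU1
set_option maxRecDepth 100000 in
theorem fastU1 : FastLev N LU1 eLU1 := fastLev_of (by decide +kernel) (by decide +kernel)
theorem treeU1 : LU1.treeOK N = true := fastU1.tree
/-- A level. -/
noncomputable def LU2 : Lev :=
  { b := 1674, D := D_LU2, arr := A_LU2, w := 19, m := 524287, mp := 4095, bn := 12, mg := 7, bd := 15,
    fs := lgetD (fun a => a) [cRU21, cRU22, cRU23, cRU24, cRU25, cRU26], gs := lgetD (fun a => a) [ciRU21, ciRU22, ciRU23, ciRU24, ciRU25, ciRU26] }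
/-- The entries of a level, from small blocks. -/
noncomputable def eLU2 : ℕ → ℕ := pgetS 19 524287 EBU2
set_option maxRecDepth 100000 in
theorem fastU2 : FastLev N LU2 eLU2 := fastLev_of (by decide +kernel) (by decide +kernel)
theorem treeU2 : LU2.treeOK N = true := fastU2.tree
/-- A level. -/
noncomputable def LU3 : Lev :=
  { b := 513, D := D_LU3, arr := A_LU3, w := 18, m := 262143, mp := 4095, bn := 12, mg := 7, bd := 15,
    fs := lgetD (fun a => a) [cRU27, cRU28, cRU29, cRU30, cRU31, cRU32, cRU33, cRU34], gs := lgetD (fun a => a) [ciRU27, ciRU28, ciRU29, ciRU30, ciRU31, ciRU32, ciRU33, ciRU34] }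
/-- The entries of a level, from small blocks. -/
noncomputable def eLU3 : ℕ → ℕ := pgetS 18 262143 EBU3
set_option maxRecDepth 100000 in
theorem fastU3 : FastLev N LU3 eLU3 := fastLev_of (by decide +kernel) (by decide +kernel)
theorem treeU3 : LU3.treeOK N = true := fastU3.tree
/-- A level. -/
noncomputable def LU4 : Lev :=
  { b := 1683, D := D_LU4, arr := A_LU4, w := 18, m := 262143, mp := 4095, bn := 12, mg := 15, bd := 16,
    fs := lgetD (fun a => a) [cRU35, cRU36, cRU37, cRU38, cRU39, cRU40, cRU41, cRU42, cRU43, cRU44, cRU45], gs := lgetD (fun a => a) [ciRU35, ciRU36, ciRU37, ciRU38, ciRU39, ciRU40, ciRU41, ciRU42, ciRU43, ciRU44, ciRU45] }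
/-- The entries of a level, from small blocks. -/
noncomputable def eLU4 : ℕ → ℕ := pgetS 18 262143 EBU4
set_option maxRecDepth 100000 in
theorem fastU4 : FastLev N LU4 eLU4 := fastLev_of (by decide +kernel) (by decide +kernel)
theorem treeU4 : LU4.treeOK N = true := fastU4.tree
/-- A level. -/
noncomputable def LU5 : Lev :=
  { b := 1747, D := D_LU5, arr := A_LU5, w := 17, m := 131071, mp := 4095, bn := 12, mg := 7, bd := 15,
    fs := lgetD (fun a => a) [cRU46, cRU47, cRU48, cRU49, cRU50], gs := lgetD (fun a => a) [ciRU46, ciRU47, ciRU48, ciRU49, ciRU50] }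
/-- The entries of a level, from small blocks. -/
noncomputable def eLU5 : ℕ → ℕ := pgetS 17 131071 EBU5
set_option maxRecDepth 100000 in
theorem fastU5 : FastLev N LU5 eLU5 := fastLev_of (by decide +kernel) (by decide +kernel)
theorem treeU5 : LU5.treeOK N = true := fastU5.tree
/-- A level. -/
noncomputable def LU6 : Lev :=
  { b := 593, D := D_LU6, arr := A_LU6, w := 17, m := 131071, mp := 4095, bn := 12, mg := 7, bd := 15,
    fs := lgetD (fun a => a) [cRU51, cRU52, cRU53, cRU54, cRU55], gs := lgetD (fun a => a) [ciRU51, ciRU52, ciRU53, ciRU54, ciRU55] }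
/-- The entries of a level, from small blocks. -/
noncomputable def eLU6 : ℕ → ℕ := pgetS 17 131071 EBU6
set_option maxRecDepth 100000 in
theorem fastU6 : FastLev N LU6 eLU6 := fastLev_of (by decide +kernel) (by decide +kernel)
theorem treeU6 : LU6.treeOK N = true := fastU6.tree
/-- A level. -/
noncomputable def LU7 : Lev :=
  { b := 1465, D := D_LU7, arr := A_LU7, w := 14, m := 16383, mp := 4095, bn := 12, mg := 1, bd := 13,
    fs := lgetD (fun a => a) [cRU56, cRU57], gs := lgetD (fun a => a) [ciRU56, ciRU57] }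
/-- The entries of a level, from small blocks. -/
noncomputable def eLU7 : ℕ → ℕ := pgetS 14 16383 EBU7
set_option maxRecDepth 100000 in
theorem fastU7 : FastLev N LU7 eLU7 := fastLev_of (by decide +kernel) (by decide +kernel)
theorem treeU7 : LU7.treeOK N = true := fastU7.tree
/-- A level. -/
noncomputable def LU8 : Lev :=
  { b := 1107, D := D_LU8, arr := A_LU8, w := 14, m := 16383, mp := 4095, bn := 12, mg := 1, bd := 13,
    fs := lgetD (fun a => a) [cRU58], gs := lgetD (fun a => a) [ciRU58] }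
/-- The entries of a level, from small blocks. -/
noncomputable def eLU8 : ℕ → ℕ := pgetS 14 16383 EBU8
set_option maxRecDepth 100000 in
theorem fastU8 : FastLev N LU8 eLU8 := fastLev_of (by decide +kernel) (by decide +kernel)
theorem treeU8 : LU8.treeOK N = true := fastU8.tree
theorem gensU0 : GensIn E H LU0 := by
  intro k
  match k with
  | 0 => exact ⟨_, (D 0).2, code_D 0, codei_D 0⟩
  | 1 => exact ⟨_, (D 1).2, code_D 1, codei_D 1⟩
  | 2 => exact ⟨_, (D 2).2, code_D 2, codei_D 2⟩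
  | 3 => exact ⟨_, (D 3).2, code_D 3, codei_D 3⟩
  | 4 => exact ⟨_, (D 4).2, code_D 4, codei_D 4⟩
  | 5 => exact ⟨_, (D 5).2, code_D 5, codei_D 5⟩
  | 6 => exact ⟨_, (D 6).2, code_D 6, codei_D 6⟩
  | 7 => exact ⟨_, (D 7).2, code_D 7, codei_D 7⟩
  | 8 => exact ⟨_, (D 8).2, code_D 8, codei_D 8⟩
  | 9 => exact ⟨_, (RU9 : G).2, code_RU9, codei_RU9⟩
  | 10 =>
    refine ⟨_, (RU9⁻¹ : G).2, codei_RU9, ?_⟩
    rw [← Subgroup.coe_inv, inv_inv]
    exact code_RU9
  | 11 => exact ⟨_, (RU10 : G).2, code_RU10, codei_RU10⟩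
  | 12 =>
    refine ⟨_, (RU10⁻¹ : G).2, codei_RU10, ?_⟩
    rw [← Subgroup.coe_inv, inv_inv]
    exact code_RU10
  | 13 => exact ⟨_, (RU11 : G).2, code_RU11, codei_RU11⟩
  | 14 =>
    refine ⟨_, (RU11⁻¹ : G).2, codei_RU11, ?_⟩
    rw [← Subgroup.coe_inv, inv_inv]
    exact code_RU11
  | 15 => exact ⟨_, (RU12 : G).2, code_RU12, codei_RU12⟩
  | 16 =>
    refine ⟨_, (RU12⁻¹ : G).2, codei_RU12, ?_⟩
    rw [← Subgroup.coe_inv, inv_inv]
    exact code_RU12
  | (k + 17) =>
    refine ⟨1, H.one_mem, isCode_one E, ?_⟩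
    rw [inv_one]
    exact isCode_one E
theorem gensU1 : GensIn E (KKU1) LU1 := by
  intro k
  match k with
  | 0 => exact ⟨_, memU1_13, code_RU13, codei_RU13⟩
  | 1 => exact ⟨_, memU1_14, code_RU14, codei_RU14⟩
  | 2 => exact ⟨_, memU1_15, code_RU15, codei_RU15⟩
  | 3 => exact ⟨_, memU1_16, code_RU16, codei_RU16⟩
  | 4 => exact ⟨_, memU1_17, code_RU17, codei_RU17⟩
  | 5 => exact ⟨_, memU1_18, code_RU18, codei_RU18⟩
  | 6 => exact ⟨_, memU1_19, code_RU19, codei_RU19⟩
  | 7 => exact ⟨_, memU1_20, code_RU20, codei_RU20⟩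
  | (k + 8) =>
    refine ⟨1, (KKU1).one_mem, isCode_one E, ?_⟩
    rw [inv_one]
    exact isCode_one E
theorem gensU2 : GensIn E (KKU2) LU2 := by
  intro k
  match k with
  | 0 => exact ⟨_, memU2_21, code_RU21, codei_RU21⟩
  | 1 => exact ⟨_, memU2_22, code_RU22, codei_RU22⟩
  | 2 => exact ⟨_, memU2_23, code_RU23, codei_RU23⟩
  | 3 => exact ⟨_, memU2_24, code_RU24, codei_RU24⟩
  | 4 => exact ⟨_, memU2_25, code_RU25, codei_RU25⟩
  | 5 => exact ⟨_, memU2_26, code_RU26, codei_RU26⟩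
  | (k + 6) =>
    refine ⟨1, (KKU2).one_mem, isCode_one E, ?_⟩
    rw [inv_one]
    exact isCode_one E
theorem gensU3 : GensIn E (KKU3) LU3 := by
  intro k
  match k with
  | 0 => exact ⟨_, memU3_27, code_RU27, codei_RU27⟩
  | 1 => exact ⟨_, memU3_28, code_RU28, codei_RU28⟩
  | 2 => exact ⟨_, memU3_29, code_RU29, codei_RU29⟩
  | 3 => exact ⟨_, memU3_30, code_RU30, codei_RU30⟩
  | 4 => exact ⟨_, memU3_31, code_RU31, codei_RU31⟩
  | 5 => exact ⟨_, memU3_32, code_RU32, codei_RU32⟩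
  | 6 => exact ⟨_, memU3_33, code_RU33, codei_RU33⟩
  | 7 => exact ⟨_, memU3_34, code_RU34, codei_RU34⟩
  | (k + 8) =>
    refine ⟨1, (KKU3).one_mem, isCode_one E, ?_⟩
    rw [inv_one]
    exact isCode_one E
theorem gensU4 : GensIn E (KKU4) LU4 := by
  intro k
  match k with
  | 0 => exact ⟨_, memU4_35, code_RU35, codei_RU35⟩
  | 1 => exact ⟨_, memU4_36, code_RU36, codei_RU36⟩
  | 2 => exact ⟨_, memU4_37, code_RU37, codei_RU37⟩
  | 3 => exact ⟨_, memU4_38, code_RU38, codei_RU38⟩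
  | 4 => exact ⟨_, memU4_39, code_RU39, codei_RU39⟩
  | 5 => exact ⟨_, memU4_40, code_RU40, codei_RU40⟩
  | 6 => exact ⟨_, memU4_41, code_RU41, codei_RU41⟩
  | 7 => exact ⟨_, memU4_42, code_RU42, codei_RU42⟩
  | 8 => exact ⟨_, memU4_43, code_RU43, codei_RU43⟩
  | 9 => exact ⟨_, memU4_44, code_RU44, codei_RU44⟩
  | 10 => exact ⟨_, memU4_45, code_RU45, codei_RU45⟩
  | (k + 11) =>
    refine ⟨1, (KKU4).one_mem, isCode_one E, ?_⟩
    rw [inv_one]
    exact isCode_one E
theorem gensU5 : GensIn E (KKU5) LU5 := by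
  intro k
  match k with
  | 0 => exact ⟨_, memU5_46, code_RU46, codei_RU46⟩
  | 1 => exact ⟨_, memU5_47, code_RU47, codei_RU47⟩
  | 2 => exact ⟨_, memU5_48, code_RU48, codei_RU48⟩
  | 3 => exact ⟨_, memU5_49, code_RU49, codei_RU49⟩
  | 4 => exact ⟨_, memU5_50, code_RU50, codei_RU50⟩
  | (k + 5) =>
    refine ⟨1, (KKU5).one_mem, isCode_one E, ?_⟩
    rw [inv_one]
    exact isCode_one E
theorem gensU6 : GensIn E (KKU6) LU6 := by
  intro k
  match k with
  | 0 => exact ⟨_, memU6_51, code_RU51, codei_RU51⟩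
  | 1 => exact ⟨_, memU6_52, code_RU52, codei_RU52⟩
  | 2 => exact ⟨_, memU6_53, code_RU53, codei_RU53⟩
  | 3 => exact ⟨_, memU6_54, code_RU54, codei_RU54⟩
  | 4 => exact ⟨_, memU6_55, code_RU55, codei_RU55⟩
  | (k + 5) =>
    refine ⟨1, (KKU6).one_mem, isCode_one E, ?_⟩
    rw [inv_one]
    exact isCode_one E
theorem gensU7 : GensIn E (KKU7) LU7 := by
  intro k
  match k with
  | 0 => exact ⟨_, memU7_56, code_RU56, codei_RU56⟩
  | 1 => exact ⟨_, memU7_57, code_RU57, codei_RU57⟩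
  | (k + 2) =>
    refine ⟨1, (KKU7).one_mem, isCode_one E, ?_⟩
    rw [inv_one]
    exact isCode_one E
theorem gensU8 : GensIn E (KKU8) LU8 := by
  intro k
  match k with
  | 0 => exact ⟨_, memU8_58, code_RU58, codei_RU58⟩
  | (k + 1) =>
    refine ⟨1, (KKU8).one_mem, isCode_one E, ?_⟩
    rw [inv_one]
    exact isCode_one E
theorem wlU8 : WeakLev E (KKU8) (⊥ : Subgroup (Equiv.Perm (Fin N))) LU8 :=
  weakLev_of_tree (by decide +kernel) gensU8 treeU8 (by decide +kernel) (by decide +kernel) bot_le (fun σ hσ => by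
      rw [Subgroup.mem_bot.1 hσ]
      rfl)
theorem leU7 : KKU8 ≤ KKU7 := by
  rw [KKU8, Subgroup.closure_le]
  rintro s (rfl)
  · exact memU7_56
theorem fixU7 : ∀ σ ∈ KKU8, σ (E.pt 1465) = E.pt 1465 := by
  apply closure_fix
  rintro s (rfl)
  · exact fix_of_code code_RU58 (by decide +kernel) (by decide +kernel)
theorem wlU7 : WeakLev E (KKU7) (KKU8) LU7 :=
  weakLev_of_tree (by decide +kernel) gensU7 treeU7 (by decide +kernel) (by decide +kernel) leU7 fixU7
theorem leU6 : KKU7 ≤ KKU6 := by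
  rw [KKU7, Subgroup.closure_le]
  rintro s (rfl | rfl)
  · exact (KKU6).mul_mem ((KKU6).inv_mem memU6_52) ((KKU6).mul_mem (memU6_53) (memU6_51))
  · exact (KKU6).mul_mem (memU6_55) (memU6_52)
theorem fixU6 : ∀ σ ∈ KKU7, σ (E.pt 593) = E.pt 593 := by
  apply closure_fix
  rintro s (rfl | rfl)
  · exact fix_of_code code_RU56 (by decide +kernel) (by decide +kernel)
  · exact fix_of_code code_RU57 (by decide +kernel) (by decide +kernel)
theorem wlU6 : WeakLev E (KKU6) (KKU7) LU6 :=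
  weakLev_of_tree (by decide +kernel) gensU6 treeU6 (by decide +kernel) (by decide +kernel) leU6 fixU6
theorem leU5 : KKU6 ≤ KKU5 := by
  rw [KKU6, Subgroup.closure_le]
  rintro s (rfl | rfl | rfl | rfl | rfl)
  · exact memU5_46
  · exact memU5_47
  · exact memU5_48
  · exact memU5_49
  · exact (KKU5).mul_mem ((KKU5).inv_mem memU5_50) ((KKU5).mul_mem (memU5_46) (memU5_50))
theorem fixU5 : ∀ σ ∈ KKU6, σ (E.pt 1747) = E.pt 1747 := by
  apply closure_fix
  rintro s (rfl | rfl | rfl | rfl | rfl)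
  · exact fix_of_code code_RU51 (by decide +kernel) (by decide +kernel)
  · exact fix_of_code code_RU52 (by decide +kernel) (by decide +kernel)
  · exact fix_of_code code_RU53 (by decide +kernel) (by decide +kernel)
  · exact fix_of_code code_RU54 (by decide +kernel) (by decide +kernel)
  · exact fix_of_code code_RU55 (by decide +kernel) (by decide +kernel)
theorem wlU5 : WeakLev E (KKU5) (KKU6) LU5 :=
  weakLev_of_tree (by decide +kernel) gensU5 treeU5 (by decide +kernel) (by decide +kernel) leU5 fixU5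
theorem leU4 : KKU5 ≤ KKU4 := by
  rw [KKU5, Subgroup.closure_le]
  rintro s (rfl | rfl | rfl | rfl | rfl)
  · exact memU4_38
  · exact (KKU4).mul_mem ((KKU4).inv_mem memU4_35) ((KKU4).mul_mem (memU4_37) (memU4_41))
  · exact (KKU4).mul_mem ((KKU4).inv_mem memU4_39) ((KKU4).mul_mem (memU4_35) (memU4_42))
  · exact (KKU4).mul_mem ((KKU4).inv_mem memU4_39) ((KKU4).mul_mem (memU4_43) ((KKU4).mul_mem (memU4_37) (memU4_36)))
  · exact (KKU4).mul_mem ((KKU4).inv_mem memU4_36) ((KKU4).mul_mem ((KKU4).inv_mem memU4_37) ((KKU4).mul_mem (memU4_45) (memU4_36)))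
theorem fixU4 : ∀ σ ∈ KKU5, σ (E.pt 1683) = E.pt 1683 := by
  apply closure_fix
  rintro s (rfl | rfl | rfl | rfl | rfl)
  · exact fix_of_code code_RU46 (by decide +kernel) (by decide +kernel)
  · exact fix_of_code code_RU47 (by decide +kernel) (by decide +kernel)
  · exact fix_of_code code_RU48 (by decide +kernel) (by decide +kernel)
  · exact fix_of_code code_RU49 (by decide +kernel) (by decide +kernel)
  · exact fix_of_code code_RU50 (by decide +kernel) (by decide +kernel)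
theorem wlU4 : WeakLev E (KKU4) (KKU5) LU4 :=
  weakLev_of_tree (by decide +kernel) gensU4 treeU4 (by decide +kernel) (by decide +kernel) leU4 fixU4
theorem leU3 : KKU4 ≤ KKU3 := by
  rw [KKU4, Subgroup.closure_le]
  rintro s (rfl | rfl | rfl | rfl | rfl | rfl | rfl | rfl | rfl | rfl | rfl)
  · exact memU3_27
  · exact memU3_28
  · exact memU3_29
  · exact memU3_30
  · exact memU3_32
  · exact memU3_33
  · exact (KKU3).mul_mem ((KKU3).inv_mem memU3_31) ((KKU3).mul_mem ((KKU3).inv_mem memU3_27) ((KKU3).mul_mem ((KKU3).inv_mem memU3_29) ((KKU3).mul_mem (memU3_31) ((KKU3).mul_mem (memU3_29) ((KKU3).mul_mem (memU3_27) (memU3_31))))))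
  · exact (KKU3).mul_mem ((KKU3).inv_mem memU3_31) ((KKU3).mul_mem ((KKU3).inv_mem memU3_27) ((KKU3).mul_mem ((KKU3).inv_mem memU3_32) ((KKU3).mul_mem (memU3_31) ((KKU3).mul_mem (memU3_32) ((KKU3).mul_mem (memU3_27) (memU3_31))))))
  · exact (KKU3).mul_mem ((KKU3).inv_mem memU3_31) ((KKU3).mul_mem ((KKU3).inv_mem memU3_28) ((KKU3).mul_mem ((KKU3).inv_mem memU3_29) ((KKU3).mul_mem ((KKU3).inv_mem memU3_31) ((KKU3).mul_mem (memU3_32) ((KKU3).mul_mem (memU3_31) ((KKU3).mul_mem (memU3_29) ((KKU3).mul_mem (memU3_28) (memU3_31))))))))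
  · exact (KKU3).mul_mem ((KKU3).inv_mem memU3_31) ((KKU3).mul_mem ((KKU3).inv_mem memU3_28) ((KKU3).mul_mem ((KKU3).inv_mem memU3_29) ((KKU3).mul_mem ((KKU3).inv_mem memU3_31) ((KKU3).mul_mem (memU3_33) ((KKU3).mul_mem (memU3_31) ((KKU3).mul_mem (memU3_29) ((KKU3).mul_mem (memU3_28) (memU3_31))))))))
  · exact (KKU3).mul_mem ((KKU3).inv_mem memU3_34) ((KKU3).mul_mem (memU3_31) ((KKU3).mul_mem (memU3_27) (memU3_31)))
theorem fixU3 : ∀ σ ∈ KKU4, σ (E.pt 513) = E.pt 513 := by
  apply closure_fix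
  rintro s (rfl | rfl | rfl | rfl | rfl | rfl | rfl | rfl | rfl | rfl | rfl)
  · exact fix_of_code code_RU35 (by decide +kernel) (by decide +kernel)
  · exact fix_of_code code_RU36 (by decide +kernel) (by decide +kernel)
  · exact fix_of_code code_RU37 (by decide +kernel) (by decide +kernel)
  · exact fix_of_code code_RU38 (by decide +kernel) (by decide +kernel)
  · exact fix_of_code code_RU39 (by decide +kernel) (by decide +kernel)
  · exact fix_of_code code_RU40 (by decide +kernel) (by decide +kernel)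
  · exact fix_of_code code_RU41 (by decide +kernel) (by decide +kernel)
  · exact fix_of_code code_RU42 (by decide +kernel) (by decide +kernel)
  · exact fix_of_code code_RU43 (by decide +kernel) (by decide +kernel)
  · exact fix_of_code code_RU44 (by decide +kernel) (by decide +kernel)
  · exact fix_of_code code_RU45 (by decide +kernel) (by decide +kernel)
theorem wlU3 : WeakLev E (KKU3) (KKU4) LU3 :=
  weakLev_of_tree (by decide +kernel) gensU3 treeU3 (by decide +kernel) (by decide +kernel) leU3 fixU3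
theorem leU2 : KKU3 ≤ KKU2 := by
  rw [KKU3, Subgroup.closure_le]
  rintro s (rfl | rfl | rfl | rfl | rfl | rfl | rfl | rfl)
  · exact memU2_21
  · exact memU2_22
  · exact memU2_23
  · exact memU2_24
  · exact memU2_25
  · exact (KKU2).mul_mem ((KKU2).inv_mem memU2_26) ((KKU2).mul_mem (memU2_23) (memU2_26))
  · exact (KKU2).mul_mem ((KKU2).inv_mem memU2_26) ((KKU2).mul_mem ((KKU2).inv_mem memU2_26) ((KKU2).mul_mem (memU2_23) ((KKU2).mul_mem (memU2_26) (memU2_26))))
  · exact (KKU2).mul_mem ((KKU2).inv_mem memU2_26) ((KKU2).mul_mem ((KKU2).inv_mem memU2_25) ((KKU2).mul_mem ((KKU2).inv_mem memU2_26) ((KKU2).mul_mem ((KKU2).inv_mem memU2_21) ((KKU2).mul_mem ((KKU2).inv_mem memU2_23) ((KKU2).mul_mem ((KKU2).inv_mem memU2_25) ((KKU2).mul_mem (memU2_26) ((KKU2).mul_mem (memU2_25) ((KKU2).mul_mem (memU2_26) ((KKU2).mul_mem (memU2_23) ((KKU2).mul_mem (memU2_21) ((KKU2).mul_mem (memU2_25) (memU2_26))))))))))))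
theorem fixU2 : ∀ σ ∈ KKU3, σ (E.pt 1674) = E.pt 1674 := by
  apply closure_fix
  rintro s (rfl | rfl | rfl | rfl | rfl | rfl | rfl | rfl)
  · exact fix_of_code code_RU27 (by decide +kernel) (by decide +kernel)
  · exact fix_of_code code_RU28 (by decide +kernel) (by decide +kernel)
  · exact fix_of_code code_RU29 (by decide +kernel) (by decide +kernel)
  · exact fix_of_code code_RU30 (by decide +kernel) (by decide +kernel)
  · exact fix_of_code code_RU31 (by decide +kernel) (by decide +kernel)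
  · exact fix_of_code code_RU32 (by decide +kernel) (by decide +kernel)
  · exact fix_of_code code_RU33 (by decide +kernel) (by decide +kernel)
  · exact fix_of_code code_RU34 (by decide +kernel) (by decide +kernel)
theorem wlU2 : WeakLev E (KKU2) (KKU3) LU2 :=
  weakLev_of_tree (by decide +kernel) gensU2 treeU2 (by decide +kernel) (by decide +kernel) leU2 fixU2
theorem leU1 : KKU2 ≤ KKU1 := by
  rw [KKU2, Subgroup.closure_le]
  rintro s (rfl | rfl | rfl | rfl | rfl | rfl)
  · exact memU1_15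
  · exact (KKU1).mul_mem ((KKU1).inv_mem memU1_20) ((KKU1).mul_mem (memU1_13) (memU1_20))
  · exact (KKU1).mul_mem ((KKU1).inv_mem memU1_19) ((KKU1).mul_mem ((KKU1).inv_mem memU1_20) ((KKU1).mul_mem (memU1_19) ((KKU1).mul_mem (memU1_13) (memU1_16))))
  · exact (KKU1).mul_mem ((KKU1).inv_mem memU1_19) ((KKU1).mul_mem ((KKU1).inv_mem memU1_15) ((KKU1).mul_mem (memU1_17) ((KKU1).mul_mem (memU1_13) ((KKU1).mul_mem (memU1_19) (memU1_16)))))
  · exact (KKU1).mul_mem ((KKU1).inv_mem memU1_18) ((KKU1).mul_mem ((KKU1).inv_mem memU1_13) ((KKU1).mul_mem ((KKU1).inv_mem memU1_19) ((KKU1).mul_mem (memU1_14) ((KKU1).mul_mem (memU1_19) ((KKU1).mul_mem (memU1_13) (memU1_18))))))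
  · exact (KKU1).mul_mem ((KKU1).inv_mem memU1_14) ((KKU1).mul_mem ((KKU1).inv_mem memU1_19) ((KKU1).mul_mem ((KKU1).inv_mem memU1_15) ((KKU1).mul_mem (memU1_17) ((KKU1).mul_mem (memU1_19) (memU1_19)))))
theorem fixU1 : ∀ σ ∈ KKU2, σ (E.pt 3248) = E.pt 3248 := by
  apply closure_fix
  rintro s (rfl | rfl | rfl | rfl | rfl | rfl)
  · exact fix_of_code code_RU21 (by decide +kernel) (by decide +kernel)
  · exact fix_of_code code_RU22 (by decide +kernel) (by decide +kernel)
  · exact fix_of_code code_RU23 (by decide +kernel) (by decide +kernel)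
  · exact fix_of_code code_RU24 (by decide +kernel) (by decide +kernel)
  · exact fix_of_code code_RU25 (by decide +kernel) (by decide +kernel)
  · exact fix_of_code code_RU26 (by decide +kernel) (by decide +kernel)
theorem wlU1 : WeakLev E (KKU1) (KKU2) LU1 :=
  weakLev_of_tree (by decide +kernel) gensU1 treeU1 (by decide +kernel) (by decide +kernel) leU1 fixU1
theorem leU0 : KKU1 ≤ H := by
  rw [KKU1, Subgroup.closure_le]
  rintro s (rfl | rfl | rfl | rfl | rfl | rfl | rfl | rfl)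
  · exact (RU13 : G).2
  · exact (RU14 : G).2
  · exact (RU15 : G).2
  · exact (RU16 : G).2
  · exact (RU17 : G).2
  · exact (RU18 : G).2
  · exact (RU19 : G).2
  · exact (RU20 : G).2
theorem fixU0 : ∀ σ ∈ KKU1, σ (E.pt 1317) = E.pt 1317 := by
  apply closure_fix
  rintro s (rfl | rfl | rfl | rfl | rfl | rfl | rfl | rfl)
  · exact fix_of_code code_RU13 (by decide +kernel) (by decide +kernel)
  · exact fix_of_code code_RU14 (by decide +kernel) (by decide +kernel)
  · exact fix_of_code code_RU15 (by decide +kernel) (by decide +kernel)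
  · exact fix_of_code code_RU16 (by decide +kernel) (by decide +kernel)
  · exact fix_of_code code_RU17 (by decide +kernel) (by decide +kernel)
  · exact fix_of_code code_RU18 (by decide +kernel) (by decide +kernel)
  · exact fix_of_code code_RU19 (by decide +kernel) (by decide +kernel)
  · exact fix_of_code code_RU20 (by decide +kernel) (by decide +kernel)
theorem wlU0 : WeakLev E (H) (KKU1) LU0 :=
  weakLev_of_tree (by decide +kernel) gensU0 treeU0 (by decide +kernel) (by decide +kernel) leU0 fixU0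

/-- The lower levels. -/
noncomputable def LtU : List Lev := [LU1, LU2, LU3, LU4, LU5, LU6, LU7, LU8]
/-- The levels. -/
noncomputable def LsU : List Lev := LU0 :: LtU
theorem wchU : WeakChain E (KKU1) LtU := ⟨_, wlU1, _, wlU2, _, wlU3, _, wlU4, _, wlU5, _, wlU6, _, wlU7, _, wlU8, rfl⟩
set_option maxRecDepth 100000 in
theorem sizesU : (LsU.map (Lev.size N)).prod = 64561751654400 := by decide +kernel
theorem main₀U : Function.Injective φ ∧ LevelSem E H (KKU1) LU0 ∧ ChainSem E (KKU1) LtU := by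
  haveI := finite_P.1
  refine chain_of_bound' φ wlU0 wchU ?_
  have h := sizesU
  rw [LsU] at h
  rw [h]
  exact finite_P.2
theorem chainHU : ChainSem E H LsU := ⟨_, main₀U.2.1, main₀U.2.2⟩

end Cfsg.Agent.Lib.KnownSimple.Fi22P
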