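import Mathlib

/-!
# Data of a coset enumeration
-/

set_option autoImplicit false

namespace Cfsg.Agent.Lib.KnownSimple.Fi22P

/-- Generated data. -/
def par1 : ℕ := 0xedb9977554322100
/-- Generated data. -/
def gix1 : ℕ := 0x6451b2d2060
/-- Generated data. -/
def dp1 : ℕ := 0xa987766554433210
/-- Generated data. -/
def fa1 : ℕ := 0xfedccbaa988766544321ffffeeeeddddbccc9bbb9aaa799788857756664553442333222111100000
/-- Generated data. -/
def fl1 : ℕ := 0x644a36c961200c8d111a2d08c88c848884388340c45c0a1519119684688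
/-- Generated data. -/
def fb1 : ℕ := 0xedb9d97c759548325210fffffeeeedcddacccbbbbaaaa89988687776666545444333322211110000
/-- Generated data. -/
def fk1 : ℕ := 0x10cc6210c52946328884108667314805250066ed0666d059e905e6d04560d556081c1aac4184830f0398805240cdda008421
/-- Generated data. -/
def po1 : ℕ := 0xaaa9a8a7a6a5a4a3a2a1a09f9e9d9c9b9a99989794918e898984817c7c79767373706b6868635e5b5b585350504d4a4a47423f3f3a3535322d2a2a272424211c1c191611110c09090603000000000000
/-- Generated data. -/
def pc1 : ℕ := 0x2492492492492496dd15d0db0eb16b0eb0d8758b43ac361d0dd1586d8000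
/-- Generated data. -/
def pa1 : ℕ := 0x1bb35ead8a746b901c4464a9d243c98b1011bb6efddaf7eed3bf766c39f7e6bd4efe7cd973e6c76f167bd56fde9d5ef51bf5a047ad15fc4af5a1d79d01bc19f3a2bd893e7439f19bc78cc94b38f19ac780c9cc06b05c2972e121b4ae5c2756c92194acd92742999aa46ad51e267d5aa42ad21d4a90b1f3c54f9e203489f2c54b96265cb101644b90100c491203c8880e244051220089
/-- Generated data. -/
def can1 : ℕ := 0xfedcba9876543210
/-- Generated data. -/
def tb1_0 : ℕ := 0xefdcba9678452310
/-- Generated data. -/
def fi1_0 : ℕ := 0x9edd82c509109d35089bf7c2c280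
/-- Generated data. -/
def tb1_1 : ℕ := 0xfdecba8956743120
/-- Generated data. -/
def fi1_1 : ℕ := 0x71399ad52951458858c9018f4401
/-- Generated data. -/
def tb1_2 : ℕ := 0xfecd9ab876325410
/-- Generated data. -/
def fi1_2 : ℕ := 0x72d18cb949939e365e0c0243c302
/-- Generated data. -/
def tb1_3 : ℕ := 0xfedabc7594863210
/-- Generated data. -/
def fi1_3 : ℕ := 0x74d592e55223c6410ce151a24383
/-- Generated data. -/
def tb1_4 : ℕ := 0xfeb9d7c8a6543201
/-- Generated data. -/
def fi1_4 : ℕ := 0x76da6cc5f2559f4660a111c29e04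

end Cfsg.Agent.Lib.KnownSimple.Fi22P
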