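import Mathlib

/-!
# Data of a coset enumeration
-/

set_option autoImplicit false

namespace Cfsg.Agent.Lib.KnownSimple.Fi22P

/-- Generated data. -/
def par2 : ℕ := 0x6717ad2718bdec62d4a4a0e62106310400
/-- Generated data. -/
def gix2 : ℕ := 0xd102d94d55004c8e2228
/-- Generated data. -/
def dp2 : ℕ := 0x41ee6b18b5a9494a10839cc62948418820
/-- Generated data. -/
def fa2 : ℕ := 0x359c5ed6ad29394a3083dce6b58b5a92941ce6294831075ad6b59ce739c6318c5ef7bdeb6b5ad4ad6b59d2948ce739c652949f18c5f08420c7bdec739ce5b5ad6a98c6296b5a54a5212949d08420c739c86318c4294a51908418c6310842104210840000000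
/-- Generated data. -/
def fl2 : ℕ := 0x1a220b64a4d4ab40305991b89116c443b0856306c6856888d1ad1ad112342b40c6458c2888b632a322222c66c46b425425443ac894855836342346c688
/-- Generated data. -/
def fb2 : ℕ := 0x338bd6f49c6b17d1ec9317053d4c4a1473110419c620835ad6b5ace739ce318c62f6bdef6b5ad6a56b5ad292a4e739ce5284a518c630742107bdaf739ce735ad6b58b6316b5ad4a4a9294a5074210729ce6318c6294a52908420c6318842108210842000000
/-- Generated data. -/
def fk2 : ℕ := 0x1440c21821c71861c30c71041c51020850831431861451841030878e16943007dd48a0195d520044f34b01134b2409227980227980207163809227900154c802489840075b28091e61001f75b4803cd2403cb2406575406574c096070e02570e02369430096058e01f48a0195480113cd2c0922798001041041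
/-- Generated data. -/
def po2 : ℕ := 0x2e973b95c6e16fb75b6d96bb55a6d167b3596c963b1586c15faf576b95bad566b157ab556a953a95469d4ba350e81409ecea6b32994be55279148a3b1a8bc52290f86426090480bf9f6f87c3d5e4ef77bb1d2e470b85bcdb6c34da6d065b198cc3602f570b85aac15aad5529d489f4fa71329447a3d188942211027e3c9e4ec71371b8d66630984bc5b2c154aa52279309849221047c3e1d8e06630180b45025128883e1a0d054240f060301206018000000000000000
/-- Generated data. -/
def pc2 : ℕ := 0x924924924924924924924924925bad86eb0eba2b6c56e86db0db0dd61b743b436e87586dd0dda1ba1ba1d61da1b6c36c3ad86eb0eb0dd15b61b6c0000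
/-- Generated data. -/
def pa2 : ℕ := 0xf0e6dcd2d8c8beb6c6aca2b89a90a6887e96748a6c70645c5e544a4250382e46261e140af0eff1f0edf1f0e6e1e7f1f0ebf1f0e9f1e6e5e7e6e3e7e6dcd5dde7e6dfe7dcdbdddcd9cbd8dddcd7dddcd2c1d3ddd2beafbfd3d2c7c9d2c5d3d2c3d3c8b69db7c9c8bdc9c8bbc9c8b9a5b8c9beacb7beb5bfbeb3bfbeb1bfb6a1b7b69fb7b69aa3aca1adac9fadac9a8f9badac9dada28fa3a28da3a28891a28b7d8aa39a8d9b9a886f899b9a8b778a9b90739190717f906f91906c636d918873898871697089886c757e6b7f7e697f7e677f7e645b657f746375746175745f575e75745c4f5d756c616d6c5f656c5c4d5d6d64596564576564544555655c535d5c4a3d4b5d5c515554495554422b435554473346554a414b4a38434a3f4b4a3b4b422d4342262f422943382d393826232739382b393829392e252f2e232f2e1e1b1f2f2e212f262527261e171f272621271e1d1f1e191f1e140d151f140a010b15141315141115140f150a090b0a070b0a050b0a030b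
/-- Generated data. -/
def can2 : ℕ := 0x6b38bdab49ca307b9ac5a928398a418820
/-- Generated data. -/
def tb2_0 : ℕ := 0x6b38ad2f69ca306b9ea4b168398a418440
/-- Generated data. -/
def fi2_0 : ℕ := 0x79746f9e9c696457524e4945408e8d8b363226221d1814107f0a00
/-- Generated data. -/
def tb2_1 : ℕ := 0x6b37c5ab29d1f08b9ac5a0ea498a410c20
/-- Generated data. -/
def fi2_1 : ℕ := 0x7a759f6e65605c5896954a4d413b37338a882e2a1e1915800f0601
/-- Generated data. -/
def tb2_2 : ℕ := 0x6b19bdab49c2326394f5b528298e320820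
/-- Generated data. -/
def fi2_2 : ℕ := 0x7ba0736a66615d59534f9392428f44343a2b27231f8281130b0702
/-- Generated data. -/
def tb2_3 : ℕ := 0x6758bdab49ca2e7c1ab62547410a618820
/-- Generated data. -/
def fi2_3 : ℕ := 0xa178706b67625e5a54504b46903c388c2f892885841a1c110c0803
/-- Generated data. -/
def tb2_4 : ℕ := 0x6b38b5e958ca707b9ac5a9262206728820
/-- Generated data. -/
def fi2_4 : ℕ := 0x7c76716c9d63999855564c47433d3935302c8786258321170d0904
/-- Generated data. -/
def tb2_5 : ℕ := 0x6b38bda71abe8c92db072928398a418801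
/-- Generated data. -/
def fi2_5 : ℕ := 0x7d77726d689b9a5f975b9451913e483f312d2924201b16120e7e05

end Cfsg.Agent.Lib.KnownSimple.Fi22P
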