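import Cfsg.Agent.Lib.KnownSimple.Fi22P.Pres
import Cfsg.Agent.Lib.KnownSimple.Fi22P.Data5_0

/-!
# A coset enumeration
-/

set_option autoImplicit false

namespace Cfsg.Agent.Lib.KnownSimple.Fi22P

open Cfsg Cfsg.Spor Cfsg.Agent.Lib.Compute Cfsg.Agent.Lib.KnownSimple.PE Cfsg.Agent.Lib.KnownSimple.Leech
open Cfsg.Agent.Lib.KnownSimple Cfsg.Agent.Lib.KnownSimple.AutRigid Cfsg.Agent.Lib.KnownSimple.Pres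

/-- A coset enumeration. -/
noncomputable def C5 : Cert where
  eL := 99
  ig := fun a => a
  words := [[], [0, 0], [1, 1], [2, 2], [3, 3], [4, 4], [5, 5], [6, 6], [7, 7], [8, 8], [0, 1, 0, 1, 0, 1], [1, 0, 1, 0, 1, 0], [0, 2, 0, 2], [2, 0, 2, 0], [0, 3, 0, 3], [3, 0, 3, 0], [0, 4, 0, 4], [4, 0, 4, 0], [0, 5, 0, 5, 0, 5], [5, 0, 5, 0, 5, 0], [0, 6, 0, 6], [6, 0, 6, 0], [0, 7, 0, 7], [7, 0, 7, 0], [0, 8, 0, 8], [8, 0, 8, 0], [1, 2, 1, 2, 1, 2], [2, 1, 2, 1, 2, 1], [1, 3, 1, 3], [3, 1, 3, 1], [1, 4, 1, 4, 1, 4], [4, 1, 4, 1, 4, 1], [1, 5, 1, 5], [5, 1, 5, 1], [1, 6, 1, 6], [6, 1, 6, 1], [1, 7, 1, 7], [7, 1, 7, 1], [1, 8, 1, 8], [8, 1, 8, 1], [2, 3, 2, 3, 2, 3], [3,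 2, 3, 2, 3, 2], [2, 4, 2, 4], [4, 2, 4, 2], [2, 5, 2, 5], [5, 2, 5, 2], [2, 6, 2, 6], [6, 2, 6, 2], [2, 7, 2, 7], [7, 2, 7, 2], [2, 8, 2, 8], [8, 2, 8, 2], [3, 4, 3, 4], [4, 3, 4, 3], [3, 5, 3, 5], [5, 3, 5, 3], [3, 6, 3, 6, 3, 6], [6, 3, 6, 3, 6, 3], [3, 7, 3, 7], [7, 3, 7, 3], [3, 8, 3, 8], [8, 3, 8, 3], [4, 5, 4, 5], [5, 4, 5, 4], [4, 6, 4, 6], [6, 4, 6, 4], [4, 7, 4, 7, 4, 7], [7, 4, 7, 4, 7, 4], [4, 8, 4, 8], [8, 4, 8, 4], [5, 6, 5, 6], [6, 5, 6, 5], [5, 7, 5, 7], [7, 5, 7, 5], [5, 8, 5, 8, 5, 8], [8, 5, 8, 5, 8, 5], [6, 7, 6, 7], [7, 6, 7, 6], [6, 8, 6, 8], [8, 6, 8, 6], [7, 8, 7, 8], [8, 7, 8, 7], [1, 0, 5, 1, 2, 3, 1, 4, 7, 1, 0, 5, 1, 2, 3, 1, 4, 7, 1, 0,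 5, 1, 2, 3, 1, 4, 7, 1, 0, 5, 1, 2, 3, 1, 4, 7, 1, 0, 5, 1, 2, 3, 1, 4, 7, 1, 0, 5, 1, 2, 3, 1, 4, 7, 1, 0, 5, 1, 2, 3, 1, 4, 7, 1, 0, 5, 1, 2, 3, 1, 4, 7, 1, 0, 5, 1, 2, 3, 1, 4, 7, 1, 0, 5, 1, 2, 3, 1, 4, 7], [0, 5, 1, 2, 3, 1, 4, 7, 1, 0, 5, 1, 2, 3, 1, 4, 7, 1, 0, 5, 1, 2, 3, 1, 4, 7, 1, 0, 5, 1, 2, 3, 1, 4, 7, 1, 0, 5, 1, 2, 3, 1, 4, 7, 1, 0, 5, 1, 2, 3, 1, 4, 7, 1, 0, 5, 1, 2, 3, 1, 4, 7, 1, 0, 5, 1, 2, 3, 1, 4, 7, 1, 0, 5, 1, 2, 3, 1, 4, 7, 1, 0, 5, 1, 2, 3, 1, 4, 7, 1], [5, 1, 2, 3, 1, 4, 7, 1, 0, 5, 1, 2, 3, 1, 4, 7, 1, 0, 5, 1, 2, 3, 1, 4, 7, 1, 0, 5, 1, 2, 3, 1, 4, 7, 1, 0, 5, 1, 2, 3, 1, 4, 7, 1, 0, 5, 1, 2, 3, 1, 4, 7, 1, 0, 5, 1, 2, 3, 1, 4, 7, 1, 0,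 5, 1, 2, 3, 1, 4, 7, 1, 0, 5, 1, 2, 3, 1, 4, 7, 1, 0, 5, 1, 2, 3, 1, 4, 7, 1, 0], [2, 3, 1, 4, 7, 1, 0, 5, 1, 2, 3, 1, 4, 7, 1, 0, 5, 1, 2, 3, 1, 4, 7, 1, 0, 5, 1, 2, 3, 1, 4, 7, 1, 0, 5, 1, 2, 3, 1, 4, 7, 1, 0, 5, 1, 2, 3, 1, 4, 7, 1, 0, 5, 1, 2, 3, 1, 4, 7, 1, 0, 5, 1, 2, 3, 1, 4, 7, 1, 0, 5, 1, 2, 3, 1, 4, 7, 1, 0, 5, 1, 2, 3, 1, 4, 7, 1, 0, 5, 1], [3, 1, 4, 7, 1, 0, 5, 1, 2, 3, 1, 4, 7, 1, 0, 5, 1, 2, 3, 1, 4, 7, 1, 0, 5, 1, 2, 3, 1, 4, 7, 1, 0, 5, 1, 2, 3, 1, 4, 7, 1, 0, 5, 1, 2, 3, 1, 4, 7, 1, 0, 5, 1, 2, 3, 1, 4, 7, 1, 0, 5, 1, 2, 3, 1, 4, 7, 1, 0, 5, 1, 2, 3, 1, 4, 7, 1, 0, 5, 1, 2, 3, 1, 4, 7, 1, 0, 5, 1, 2], [1, 4, 7, 1, 0, 5, 1, 2, 3, 1, 4, 7, 1, 0, 5,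 1, 2, 3, 1, 4, 7, 1, 0, 5, 1, 2, 3, 1, 4, 7, 1, 0, 5, 1, 2, 3, 1, 4, 7, 1, 0, 5, 1, 2, 3, 1, 4, 7, 1, 0, 5, 1, 2, 3, 1, 4, 7, 1, 0, 5, 1, 2, 3, 1, 4, 7, 1, 0, 5, 1, 2, 3, 1, 4, 7, 1, 0, 5, 1, 2, 3, 1, 4, 7, 1, 0, 5, 1, 2, 3], [4, 7, 1, 0, 5, 1, 2, 3, 1, 4, 7, 1, 0, 5, 1, 2, 3, 1, 4, 7, 1, 0, 5, 1, 2, 3, 1, 4, 7, 1, 0, 5, 1, 2, 3, 1, 4, 7, 1, 0, 5, 1, 2, 3, 1, 4, 7, 1, 0, 5, 1, 2, 3, 1, 4, 7, 1, 0, 5, 1, 2, 3, 1, 4, 7, 1, 0, 5, 1, 2, 3, 1, 4, 7, 1, 0, 5, 1, 2, 3, 1, 4, 7, 1, 0, 5, 1, 2, 3, 1], [7, 1, 0, 5, 1, 2, 3, 1, 4, 7, 1, 0, 5, 1, 2, 3, 1, 4, 7, 1, 0, 5, 1, 2, 3, 1, 4, 7, 1, 0, 5, 1, 2, 3, 1, 4, 7, 1, 0, 5, 1, 2, 3, 1, 4, 7, 1, 0, 5, 1, 2, 3, 1, 4, 7, 1, 0, 5,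 1, 2, 3, 1, 4, 7, 1, 0, 5, 1, 2, 3, 1, 4, 7, 1, 0, 5, 1, 2, 3, 1, 4, 7, 1, 0, 5, 1, 2, 3, 1, 4], [8, 5, 0, 1, 2, 3, 4, 8, 5, 0, 1, 2, 3, 4, 8, 5, 0, 1, 2, 3, 4, 8, 5, 0, 1, 2, 3, 4, 8, 5, 0, 1, 2, 3, 4, 8, 5, 0, 1, 2, 3, 4, 8, 5, 0, 1, 2, 3, 4, 8, 5, 0, 1, 2, 3, 4, 8, 5, 0, 1, 2, 3, 4], [5, 0, 1, 2, 3, 4, 8, 5, 0, 1, 2, 3, 4, 8, 5, 0, 1, 2, 3, 4, 8, 5, 0, 1, 2, 3, 4, 8, 5, 0, 1, 2, 3, 4, 8, 5, 0, 1, 2, 3, 4, 8, 5, 0, 1, 2, 3, 4, 8, 5, 0, 1, 2, 3, 4, 8, 5, 0, 1, 2, 3, 4, 8], [0, 1, 2, 3, 4, 8, 5, 0, 1, 2, 3, 4, 8, 5, 0, 1, 2, 3, 4, 8, 5, 0, 1, 2, 3, 4, 8, 5, 0, 1, 2, 3, 4, 8, 5, 0, 1, 2, 3, 4, 8, 5, 0, 1, 2, 3, 4, 8, 5, 0, 1, 2, 3, 4, 8, 5, 0, 1, 2, 3, 4, 8, 5], [1,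 2, 3, 4, 8, 5, 0, 1, 2, 3, 4, 8, 5, 0, 1, 2, 3, 4, 8, 5, 0, 1, 2, 3, 4, 8, 5, 0, 1, 2, 3, 4, 8, 5, 0, 1, 2, 3, 4, 8, 5, 0, 1, 2, 3, 4, 8, 5, 0, 1, 2, 3, 4, 8, 5, 0, 1, 2, 3, 4, 8, 5, 0], [2, 3, 4, 8, 5, 0, 1, 2, 3, 4, 8, 5, 0, 1, 2, 3, 4, 8, 5, 0, 1, 2, 3, 4, 8, 5, 0, 1, 2, 3, 4, 8, 5, 0, 1, 2, 3, 4, 8, 5, 0, 1, 2, 3, 4, 8, 5, 0, 1, 2, 3, 4, 8, 5, 0, 1, 2, 3, 4, 8, 5, 0, 1], [3, 4, 8, 5, 0, 1, 2, 3, 4, 8, 5, 0, 1, 2, 3, 4, 8, 5, 0, 1, 2, 3, 4, 8, 5, 0, 1, 2, 3, 4, 8, 5, 0, 1, 2, 3, 4, 8, 5, 0, 1, 2, 3, 4, 8, 5, 0, 1, 2, 3, 4, 8, 5, 0, 1, 2, 3, 4, 8, 5, 0, 1, 2], [4, 8, 5, 0, 1, 2, 3, 4, 8, 5, 0, 1, 2, 3, 4, 8, 5, 0, 1, 2, 3, 4, 8, 5, 0, 1, 2, 3, 4, 8, 5, 0, 1, 2,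 3, 4, 8, 5, 0, 1, 2, 3, 4, 8, 5, 0, 1, 2, 3, 4, 8, 5, 0, 1, 2, 3, 4, 8, 5, 0, 1, 2, 3], [5, 0, 1, 2, 3, 6, 4, 5, 0, 1, 2, 3, 6, 4, 5, 0, 1, 2, 3, 6, 4, 5, 0, 1, 2, 3, 6, 4, 5, 0, 1, 2, 3, 6, 4, 5, 0, 1, 2, 3, 6, 4, 5, 0, 1, 2, 3, 6, 4, 5, 0, 1, 2, 3, 6, 4, 5, 0, 1, 2, 3, 6, 4], [2, 3, 6, 4, 5, 0, 1, 2, 3, 6, 4, 5, 0, 1, 2, 3, 6, 4, 5, 0, 1, 2, 3, 6, 4, 5, 0, 1, 2, 3, 6, 4, 5, 0, 1, 2, 3, 6, 4, 5, 0, 1, 2, 3, 6, 4, 5, 0, 1, 2, 3, 6, 4, 5, 0, 1, 2, 3, 6, 4, 5, 0, 1], [3, 6, 4, 5, 0, 1, 2, 3, 6, 4, 5, 0, 1, 2, 3, 6, 4, 5, 0, 1, 2, 3, 6, 4, 5, 0, 1, 2, 3, 6, 4, 5, 0, 1, 2, 3, 6, 4, 5, 0, 1, 2, 3, 6, 4, 5, 0, 1, 2, 3, 6, 4, 5, 0, 1, 2, 3, 6, 4, 5, 0, 1, 2], [6, 4, 5, 0,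 1, 2, 3, 6, 4, 5, 0, 1, 2, 3, 6, 4, 5, 0, 1, 2, 3, 6, 4, 5, 0, 1, 2, 3, 6, 4, 5, 0, 1, 2, 3, 6, 4, 5, 0, 1, 2, 3, 6, 4, 5, 0, 1, 2, 3, 6, 4, 5, 0, 1, 2, 3, 6, 4, 5, 0, 1, 2, 3], [4, 5, 0, 1, 2, 3, 6, 4, 5, 0, 1, 2, 3, 6, 4, 5, 0, 1, 2, 3, 6, 4, 5, 0, 1, 2, 3, 6, 4, 5, 0, 1, 2, 3, 6, 4, 5, 0, 1, 2, 3, 6, 4, 5, 0, 1, 2, 3, 6, 4, 5, 0, 1, 2, 3, 6, 4, 5, 0, 1, 2, 3, 6]]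
  sub := fun x => Nat.blt x 8
  par := pgetT 15 32767 par5
  gix := pgetT 4 15 gix5
  dp := pgetT 6 63 dp5
  fa := pgetT 15 32767 fa5
  fl := pgetT 7 127 fl5
  fb := pgetT 15 32767 fb5
  fk := pgetT 7 127 fk5
  po := pgetT 19 524287 po5
  pc := pgetT 7 127 pc5
  pa := pgetT 18 262143 pa5
  can := pgetT 15 32767 can5
  t := cns (pgetT 14 16383 tb5_0) (cns (pgetT 14 16383 tb5_1) (cns (pgetT 14 16383 tb5_2) (cns (pgetT 14 16383 tb5_3) (cns (pgetT 14 16383 tb5_4) (cns (pgetT 14 16383 tb5_5) (cns (pgetT 14 16383 tb5_6) (cns (pgetT 14 16383 tb5_7) (cns (pgetT 14 16383 tb5_8) (fun _ => 0)))))))))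
  fid := cns (pgetT 18 262143 fi5_0) (cns (pgetT 18 262143 fi5_1) (cns (pgetT 18 262143 fi5_2) (cns (pgetT 18 262143 fi5_3) (cns (pgetT 18 262143 fi5_4) (cns (pgetT 18 262143 fi5_5) (cns (pgetT 18 262143 fi5_6) (cns (pgetT 18 262143 fi5_7) (cns (pgetT 18 262143 fi5_8) (fun _ => 0)))))))))

/-- The number of facts. -/
abbrev K5 : ℕ := 142857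

set_option maxRecDepth 100000 in
theorem words5 : wordsOK ([] :: S.L.relW) C5.words = true := by decide +kernel

end Cfsg.Agent.Lib.KnownSimple.Fi22P
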