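import Cfsg.Agent.Lib.KnownSimple.Fi22P.Def4

/-!
# A coset enumeration: the facts
-/

set_option autoImplicit false

namespace Cfsg.Agent.Lib.KnownSimple.Fi22P

open Cfsg Cfsg.Spor Cfsg.Agent.Lib.Compute Cfsg.Agent.Lib.KnownSimple.PE Cfsg.Agent.Lib.KnownSimple.Leech
open Cfsg.Agent.Lib.KnownSimple Cfsg.Agent.Lib.KnownSimple.AutRigid Cfsg.Agent.Lib.KnownSimple.Pres

set_option maxHeartbeats 0 in
set_option maxRecDepth 100000 in
theorem fc4_0 : chunk (padB K4 (Cert.factOK C4)) 2584 0 = true := by decide +kernel
set_option maxHeartbeats 0 in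
set_option maxRecDepth 100000 in
theorem fc4_1 : chunk (padB K4 (Cert.factOK C4)) 2584 1 = true := by decide +kernel
set_option maxHeartbeats 0 in
set_option maxRecDepth 100000 in
theorem fc4_2 : chunk (padB K4 (Cert.factOK C4)) 2584 2 = true := by decide +kernel
set_option maxHeartbeats 0 in
set_option maxRecDepth 100000 in
theorem fc4_3 : chunk (padB K4 (Cert.factOK C4)) 2584 3 = true := by decide +kernel
set_option maxHeartbeats 0 in
set_option maxRecDepth 100000 in
theorem fc4_4 : chunk (padB K4 (Cert.factOK C4)) 2584 4 = true := by decide +kernel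
set_option maxHeartbeats 0 in
set_option maxRecDepth 100000 in
theorem fc4_5 : chunk (padB K4 (Cert.factOK C4)) 2584 5 = true := by decide +kernel
set_option maxHeartbeats 0 in
set_option maxRecDepth 100000 in
theorem fc4_6 : chunk (padB K4 (Cert.factOK C4)) 2584 6 = true := by decide +kernel
set_option maxHeartbeats 0 in
set_option maxRecDepth 100000 in
theorem fc4_7 : chunk (padB K4 (Cert.factOK C4)) 2584 7 = true := by decide +kernel
set_option maxHeartbeats 0 in
set_option maxRecDepth 100000 in
theorem fc4_8 : chunk (padB K4 (Cert.factOK C4)) 2584 8 = true := by decide +kernel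
set_option maxHeartbeats 0 in
set_option maxRecDepth 100000 in
theorem fc4_9 : chunk (padB K4 (Cert.factOK C4)) 2584 9 = true := by decide +kernel
set_option maxHeartbeats 0 in
set_option maxRecDepth 100000 in
theorem fc4_10 : chunk (padB K4 (Cert.factOK C4)) 2584 10 = true := by decide +kernel
set_option maxHeartbeats 0 in
set_option maxRecDepth 100000 in
theorem fc4_11 : chunk (padB K4 (Cert.factOK C4)) 2584 11 = true := by decide +kernel
set_option maxHeartbeats 0 in
set_option maxRecDepth 100000 in
theorem fc4_12 : chunk (padB K4 (Cert.factOK C4)) 2584 12 = true := by decide +kernel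
set_option maxHeartbeats 0 in
set_option maxRecDepth 100000 in
theorem fc4_13 : chunk (padB K4 (Cert.factOK C4)) 2584 13 = true := by decide +kernel
set_option maxHeartbeats 0 in
set_option maxRecDepth 100000 in
theorem fc4_14 : chunk (padB K4 (Cert.factOK C4)) 2584 14 = true := by decide +kernel
set_option maxHeartbeats 0 in
set_option maxRecDepth 100000 in
theorem fc4_15 : chunk (padB K4 (Cert.factOK C4)) 2584 15 = true := by decide +kernel
set_option maxHeartbeats 0 in
set_option maxRecDepth 100000 in
theorem fc4_16 : chunk (padB K4 (Cert.factOK C4)) 2584 16 = true := by decide +kernel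
set_option maxHeartbeats 0 in
set_option maxRecDepth 100000 in
theorem fc4_17 : chunk (padB K4 (Cert.factOK C4)) 2584 17 = true := by decide +kernel
set_option maxHeartbeats 0 in
set_option maxRecDepth 100000 in
theorem fc4_18 : chunk (padB K4 (Cert.factOK C4)) 2584 18 = true := by decide +kernel
set_option maxHeartbeats 0 in
set_option maxRecDepth 100000 in
theorem fc4_19 : chunk (padB K4 (Cert.factOK C4)) 2584 19 = true := by decide +kernel
set_option maxHeartbeats 0 in
set_option maxRecDepth 100000 in
theorem fc4_20 : chunk (padB K4 (Cert.factOK C4)) 2584 20 = true := by decide +kernel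
set_option maxHeartbeats 0 in
set_option maxRecDepth 100000 in
theorem fc4_21 : chunk (padB K4 (Cert.factOK C4)) 2584 21 = true := by decide +kernel
set_option maxHeartbeats 0 in
set_option maxRecDepth 100000 in
theorem fc4_22 : chunk (padB K4 (Cert.factOK C4)) 2584 22 = true := by decide +kernel
set_option maxHeartbeats 0 in
set_option maxRecDepth 100000 in
theorem fc4_23 : chunk (padB K4 (Cert.factOK C4)) 2584 23 = true := by decide +kernel
set_option maxHeartbeats 0 in
set_option maxRecDepth 100000 in
theorem fc4_24 : chunk (padB K4 (Cert.factOK C4)) 2584 24 = true := by decide +kernel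
set_option maxHeartbeats 0 in
set_option maxRecDepth 100000 in
theorem fc4_25 : chunk (padB K4 (Cert.factOK C4)) 2584 25 = true := by decide +kernel
set_option maxHeartbeats 0 in
set_option maxRecDepth 100000 in
theorem fc4_26 : chunk (padB K4 (Cert.factOK C4)) 2584 26 = true := by decide +kernel

end Cfsg.Agent.Lib.KnownSimple.Fi22P
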