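import Cfsg.Agent.Lib.KnownSimple.Fi22P.Def5

/-!
# A coset enumeration: the facts
-/

set_option autoImplicit false

namespace Cfsg.Agent.Lib.KnownSimple.Fi22P

open Cfsg Cfsg.Spor Cfsg.Agent.Lib.Compute Cfsg.Agent.Lib.KnownSimple.PE Cfsg.Agent.Lib.KnownSimple.Leech
open Cfsg.Agent.Lib.KnownSimple Cfsg.Agent.Lib.KnownSimple.AutRigid Cfsg.Agent.Lib.KnownSimple.Pres

set_option maxHeartbeats 0 in
set_option maxRecDepth 100000 in
theorem fc5_0 : chunk (padB K5 (Cert.factOK C5)) 2584 0 = true := by decide +kernel
set_option maxHeartbeats 0 in
set_option maxRecDepth 100000 in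
theorem fc5_1 : chunk (padB K5 (Cert.factOK C5)) 2584 1 = true := by decide +kernel
set_option maxHeartbeats 0 in
set_option maxRecDepth 100000 in
theorem fc5_2 : chunk (padB K5 (Cert.factOK C5)) 2584 2 = true := by decide +kernel
set_option maxHeartbeats 0 in
set_option maxRecDepth 100000 in
theorem fc5_3 : chunk (padB K5 (Cert.factOK C5)) 2584 3 = true := by decide +kernel
set_option maxHeartbeats 0 in
set_option maxRecDepth 100000 in
theorem fc5_4 : chunk (padB K5 (Cert.factOK C5)) 2584 4 = true := by decide +kernel
set_option maxHeartbeats 0 in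
set_option maxRecDepth 100000 in
theorem fc5_5 : chunk (padB K5 (Cert.factOK C5)) 2584 5 = true := by decide +kernel
set_option maxHeartbeats 0 in
set_option maxRecDepth 100000 in
theorem fc5_6 : chunk (padB K5 (Cert.factOK C5)) 2584 6 = true := by decide +kernel
set_option maxHeartbeats 0 in
set_option maxRecDepth 100000 in
theorem fc5_7 : chunk (padB K5 (Cert.factOK C5)) 2584 7 = true := by decide +kernel
set_option maxHeartbeats 0 in
set_option maxRecDepth 100000 in
theorem fc5_8 : chunk (padB K5 (Cert.factOK C5)) 2584 8 = true := by decide +kernel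
set_option maxHeartbeats 0 in
set_option maxRecDepth 100000 in
theorem fc5_9 : chunk (padB K5 (Cert.factOK C5)) 2584 9 = true := by decide +kernel
set_option maxHeartbeats 0 in
set_option maxRecDepth 100000 in
theorem fc5_10 : chunk (padB K5 (Cert.factOK C5)) 2584 10 = true := by decide +kernel
set_option maxHeartbeats 0 in
set_option maxRecDepth 100000 in
theorem fc5_11 : chunk (padB K5 (Cert.factOK C5)) 2584 11 = true := by decide +kernel
set_option maxHeartbeats 0 in
set_option maxRecDepth 100000 in
theorem fc5_12 : chunk (padB K5 (Cert.factOK C5)) 2584 12 = true := by decide +kernel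
set_option maxHeartbeats 0 in
set_option maxRecDepth 100000 in
theorem fc5_13 : chunk (padB K5 (Cert.factOK C5)) 2584 13 = true := by decide +kernel
set_option maxHeartbeats 0 in
set_option maxRecDepth 100000 in
theorem fc5_14 : chunk (padB K5 (Cert.factOK C5)) 2584 14 = true := by decide +kernel
set_option maxHeartbeats 0 in
set_option maxRecDepth 100000 in
theorem fc5_15 : chunk (padB K5 (Cert.factOK C5)) 2584 15 = true := by decide +kernel
set_option maxHeartbeats 0 in
set_option maxRecDepth 100000 in
theorem fc5_16 : chunk (padB K5 (Cert.factOK C5)) 2584 16 = true := by decide +kernel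
set_option maxHeartbeats 0 in
set_option maxRecDepth 100000 in
theorem fc5_17 : chunk (padB K5 (Cert.factOK C5)) 2584 17 = true := by decide +kernel
set_option maxHeartbeats 0 in
set_option maxRecDepth 100000 in
theorem fc5_18 : chunk (padB K5 (Cert.factOK C5)) 2584 18 = true := by decide +kernel
set_option maxHeartbeats 0 in
set_option maxRecDepth 100000 in
theorem fc5_19 : chunk (padB K5 (Cert.factOK C5)) 2584 19 = true := by decide +kernel
set_option maxHeartbeats 0 in
set_option maxRecDepth 100000 in
theorem fc5_20 : chunk (padB K5 (Cert.factOK C5)) 2584 20 = true := by decide +kernel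
set_option maxHeartbeats 0 in
set_option maxRecDepth 100000 in
theorem fc5_21 : chunk (padB K5 (Cert.factOK C5)) 2584 21 = true := by decide +kernel
set_option maxHeartbeats 0 in
set_option maxRecDepth 100000 in
theorem fc5_22 : chunk (padB K5 (Cert.factOK C5)) 2584 22 = true := by decide +kernel
set_option maxHeartbeats 0 in
set_option maxRecDepth 100000 in
theorem fc5_23 : chunk (padB K5 (Cert.factOK C5)) 2584 23 = true := by decide +kernel
set_option maxHeartbeats 0 in
set_option maxRecDepth 100000 in
theorem fc5_24 : chunk (padB K5 (Cert.factOK C5)) 2584 24 = true := by decide +kernel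
set_option maxHeartbeats 0 in
set_option maxRecDepth 100000 in
theorem fc5_25 : chunk (padB K5 (Cert.factOK C5)) 2584 25 = true := by decide +kernel
set_option maxHeartbeats 0 in
set_option maxRecDepth 100000 in
theorem fc5_26 : chunk (padB K5 (Cert.factOK C5)) 2584 26 = true := by decide +kernel
set_option maxHeartbeats 0 in
set_option maxRecDepth 100000 in
theorem fc5_27 : chunk (padB K5 (Cert.factOK C5)) 2584 27 = true := by decide +kernel
set_option maxHeartbeats 0 in
set_option maxRecDepth 100000 in
theorem fc5_28 : chunk (padB K5 (Cert.factOK C5)) 2584 28 = true := by decide +kernel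
set_option maxHeartbeats 0 in
set_option maxRecDepth 100000 in
theorem fc5_29 : chunk (padB K5 (Cert.factOK C5)) 2584 29 = true := by decide +kernel
set_option maxHeartbeats 0 in
set_option maxRecDepth 100000 in
theorem fc5_30 : chunk (padB K5 (Cert.factOK C5)) 2584 30 = true := by decide +kernel
set_option maxHeartbeats 0 in
set_option maxRecDepth 100000 in
theorem fc5_31 : chunk (padB K5 (Cert.factOK C5)) 2584 31 = true := by decide +kernel
set_option maxHeartbeats 0 in
set_option maxRecDepth 100000 in
theorem fc5_32 : chunk (padB K5 (Cert.factOK C5)) 2584 32 = true := by decide +kernel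
set_option maxHeartbeats 0 in
set_option maxRecDepth 100000 in
theorem fc5_33 : chunk (padB K5 (Cert.factOK C5)) 2584 33 = true := by decide +kernel
set_option maxHeartbeats 0 in
set_option maxRecDepth 100000 in
theorem fc5_34 : chunk (padB K5 (Cert.factOK C5)) 2584 34 = true := by decide +kernel
set_option maxHeartbeats 0 in
set_option maxRecDepth 100000 in
theorem fc5_35 : chunk (padB K5 (Cert.factOK C5)) 2584 35 = true := by decide +kernel
set_option maxHeartbeats 0 in
set_option maxRecDepth 100000 in
theorem fc5_36 : chunk (padB K5 (Cert.factOK C5)) 2584 36 = true := by decide +kernel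
set_option maxHeartbeats 0 in
set_option maxRecDepth 100000 in
theorem fc5_37 : chunk (padB K5 (Cert.factOK C5)) 2584 37 = true := by decide +kernel
set_option maxHeartbeats 0 in
set_option maxRecDepth 100000 in
theorem fc5_38 : chunk (padB K5 (Cert.factOK C5)) 2584 38 = true := by decide +kernel
set_option maxHeartbeats 0 in
set_option maxRecDepth 100000 in
theorem fc5_39 : chunk (padB K5 (Cert.factOK C5)) 2584 39 = true := by decide +kernel

end Cfsg.Agent.Lib.KnownSimple.Fi22P
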