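import Cfsg.Agent.Lib.KnownSimple.Fi22P.HomT

/-!
# Relators on the tables
-/

set_option autoImplicit false

namespace Cfsg.Agent.Lib.KnownSimple.Fi22P

open Cfsg Cfsg.Spor Cfsg.Agent.Lib.Compute Cfsg.Agent.Lib.KnownSimple.PE Cfsg.Agent.Lib.KnownSimple.Leech
open Cfsg.Agent.Lib.KnownSimple Cfsg.Agent.Lib.KnownSimple.AutRigid Cfsg.Agent.Lib.KnownSimple.Pres

set_option maxHeartbeats 0 in
set_option maxRecDepth 100000 in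
theorem hexR_1 : extRow (N := N) S T [8, 5, 0, 1, 2, 3, 4, 8, 5, 0, 1, 2, 3, 4, 8, 5, 0, 1, 2, 3, 4, 8, 5, 0, 1, 2, 3, 4, 8, 5, 0, 1, 2, 3, 4, 8, 5, 0, 1, 2, 3, 4, 8, 5, 0, 1, 2, 3, 4, 8, 5, 0, 1, 2, 3, 4, 8, 5, 0, 1, 2, 3, 4] = true := by decide +kernel
set_option maxHeartbeats 0 in
set_option maxRecDepth 100000 in
theorem hexR_2 : extRow (N := N) S T [5, 0, 1, 2, 3, 6, 4, 5, 0, 1, 2, 3, 6, 4, 5, 0, 1, 2, 3, 6, 4, 5, 0, 1, 2, 3, 6, 4, 5, 0, 1, 2, 3, 6, 4, 5, 0, 1, 2, 3, 6, 4, 5, 0, 1, 2, 3, 6, 4, 5, 0, 1, 2, 3, 6, 4, 5, 0, 1, 2, 3, 6, 4] = true := by decide +kernel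

end Cfsg.Agent.Lib.KnownSimple.Fi22P
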