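import Cfsg.Agent.Lib.KnownSimple.Fi22P.HomR0
import Cfsg.Agent.Lib.KnownSimple.Fi22P.HomR1
import Cfsg.Agent.Lib.KnownSimple.Fi22P.HomR2
import Cfsg.Agent.Lib.KnownSimple.Fi22P.HomR3

/-!
# The permutation representation
-/

set_option autoImplicit false

namespace Cfsg.Agent.Lib.KnownSimple.Fi22P

open Cfsg Cfsg.Spor Cfsg.Agent.Lib.Compute Cfsg.Agent.Lib.KnownSimple.PE Cfsg.Agent.Lib.KnownSimple.Leech
open Cfsg.Agent.Lib.KnownSimple Cfsg.Agent.Lib.KnownSimple.AutRigid Cfsg.Agent.Lib.KnownSimple.Pres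

/-- The permutation of a letter. -/
noncomputable abbrev lp : ℕ → Equiv.Perm (Fin N) := lpOf ts hts
theorem hcx : coxChk (N := N) S T = true := coxChk_of_rows S T (fun x => match x with
  | .c => hcxR_c
  | .d => hcxR_d
  | .e => hcxR_e
  | .f => hcxR_f
  | .h => hcxR_h
  | .b => hcxR_b
  | .g => hcxR_g
  | .i => hcxR_i
  | .a => hcxR_a)
theorem hex_ : extChk (N := N) S T = true := by
  apply extChk_of_rows S T [[1, 0, 5, 1, 2, 3, 1, 4, 7, 1, 0, 5, 1, 2, 3, 1, 4, 7, 1, 0, 5, 1, 2, 3, 1, 4, 7, 1, 0, 5, 1, 2, 3, 1, 4, 7, 1, 0, 5, 1, 2, 3, 1, 4, 7, 1, 0, 5, 1, 2, 3, 1, 4, 7, 1, 0, 5, 1, 2, 3, 1, 4, 7, 1, 0, 5, 1, 2, 3, 1, 4, 7, 1, 0, 5, 1, 2, 3, 1, 4, 7, 1, 0, 5, 1, 2, 3, 1, 4, 7], [8, 5, 0, 1, 2, 3, 4, 8, 5, 0, 1, 2, 3, 4, 8, 5, 0, 1, 2, 3, 4, 8, 5, 0, 1, 2, 3, 4, 8, 5, 0, 1, 2, 3, 4, 8, 5, 0, 1, 2, 3, 4, 8, 5, 0, 1, 2, 3, 4, 8, 5, 0,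 1, 2, 3, 4, 8, 5, 0, 1, 2, 3, 4], [5, 0, 1, 2, 3, 6, 4, 5, 0, 1, 2, 3, 6, 4, 5, 0, 1, 2, 3, 6, 4, 5, 0, 1, 2, 3, 6, 4, 5, 0, 1, 2, 3, 6, 4, 5, 0, 1, 2, 3, 6, 4, 5, 0, 1, 2, 3, 6, 4, 5, 0, 1, 2, 3, 6, 4, 5, 0, 1, 2, 3, 6, 4]] rfl
  intro W hW
  simp only [List.mem_cons, List.not_mem_nil, or_false] at hW
  rcases hW with rfl | rfl | rfl
  · exact hexR_0
  · exact hexR_1
  · exact hexR_2
theorem hlen : ts.length = S.gs.length := rfl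
theorem exists_φ : ∃ φ : P →* Equiv.Perm (Fin N), ∀ k, φ (S.L.v k) = lp (nmOf S.gs.length k) :=
  S.exists_phi hts hlen hcx hex_
/-- The homomorphism. -/
noncomputable def φ : P →* Equiv.Perm (Fin N) := Classical.choose exists_φ
theorem φ_v : ∀ k, φ (S.L.v k) = lp (nmOf S.gs.length k) := Classical.choose_spec exists_φ
/-- The image. -/
noncomputable abbrev H : Subgroup (Equiv.Perm (Fin N)) := φ.range
/-- The image, as a group. -/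
abbrev G : Type := ↥H
theorem lp_mem (k : ℕ) : lp k ∈ H := S.lpOf_mem hts hlen φ_v k
/-- A letter in the image. -/
noncomputable def D (k : ℕ) : G := ⟨lp k, lp_mem k⟩
theorem code_D (k : ℕ) : E.IsCode ((D k : G) : Equiv.Perm (Fin N)) (T k) := code_lpOf hts k
theorem codei_D (k : ℕ) : E.IsCode ((D k)⁻¹ : G).1 (T k) := by
  show E.IsCode (lp k)⁻¹ (T k)
  rw [lpOf_inv]
  exact code_lpOf hts k

theorem coe_code_mul {a b : G} {f g : ℕ → ℕ} (h1 : E.IsCode (a : Equiv.Perm (Fin N)) f)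
    (h2 : E.IsCode (b : Equiv.Perm (Fin N)) g) :
    E.IsCode ((a * b : G) : Equiv.Perm (Fin N)) (fun i => f (g i)) := isCode_mul h1 h2

end Cfsg.Agent.Lib.KnownSimple.Fi22P
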