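import Cfsg.Agent.Lib.KnownSimple.Fi22P.Bound
import Cfsg.Agent.Lib.KnownSimple.Fi22P.DataT
import Cfsg.Agent.Lib.KnownSimple.Fi22P.DataL
import Cfsg.Agent.Lib.KnownSimple.Pres.StdR

/-!
# The permutation representation
-/

set_option autoImplicit false

namespace Cfsg.Agent.Lib.KnownSimple.Fi22P

open Cfsg Cfsg.Spor Cfsg.Agent.Lib.Compute Cfsg.Agent.Lib.KnownSimple.PE Cfsg.Agent.Lib.KnownSimple.Leech
open Cfsg.Agent.Lib.KnownSimple Cfsg.Agent.Lib.KnownSimple.AutRigid Cfsg.Agent.Lib.KnownSimple.Pres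

/-- The number of points. -/
abbrev N : ℕ := 3510
/-- The encoding. -/
abbrev E : Enc (Fin N) N := encFin N
/-- The tables of the letters. -/
noncomputable def ts : List (ℕ → ℕ) := [pgetS 12 4095 t0, pgetS 12 4095 t1, pgetS 12 4095 t2, pgetS 12 4095 t3, pgetS 12 4095 t4, pgetS 12 4095 t5, pgetS 12 4095 t6, pgetS 12 4095 t7, pgetS 12 4095 t8]
/-- The table of a letter. -/
noncomputable abbrev T : ℕ → ℕ → ℕ := tblOf ts
set_option maxHeartbeats 0 in
set_option maxRecDepth 100000 in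
theorem hts : ∀ t ∈ ts, invOK (N := N) t = true := by decide +kernel

end Cfsg.Agent.Lib.KnownSimple.Fi22P
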