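import Cfsg.Agent.Lib.KnownSimple.Fi22P.ChainU
import Cfsg.Agent.Lib.KnownSimple.Pres.Srch
import Cfsg.Agent.Lib.KnownSimple.Fi22P.DataX

/-!
# The elements of the rigidity argument
-/

set_option autoImplicit false

namespace Cfsg.Agent.Lib.KnownSimple.Fi22P

open Cfsg Cfsg.Spor Cfsg.Agent.Lib.Compute Cfsg.Agent.Lib.KnownSimple.PE Cfsg.Agent.Lib.KnownSimple.Leech
open Cfsg.Agent.Lib.KnownSimple Cfsg.Agent.Lib.KnownSimple.AutRigid Cfsg.Agent.Lib.KnownSimple.Pres

/-- The levels with their fast lookups. -/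
noncomputable def Lf : List (Lev × (ℕ → ℕ)) := [(L0, eL0), (L1, eL1), (L2, eL2), (L3, eL3), (L4, eL4), (L5, eL5)]
theorem hLf : ChainSem E H (Lf.map Prod.fst) := chainH
theorem hFL : ∀ Lo ∈ Lf, FastLev N Lo.1 Lo.2 := by
  intro Lo h
  simp only [Lf, List.mem_cons, List.not_mem_nil, or_false] at h
  rcases h with rfl | rfl | rfl | rfl | rfl | rfl
  · exact fast0
  · exact fast1
  · exact fast2
  · exact fast3
  · exact fast4
  · exact fast5

/-- The code of an element. -/
noncomputable def cw : ℕ → ℕ := pgetS 12 4095 cwT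
/-- The inverse code of an element. -/
noncomputable def ciw : ℕ → ℕ := pgetS 12 4095 cwI
set_option maxRecDepth 100000 in
theorem chkw : chkT (N := N) cw ciw = true := by decide +kernel
set_option maxRecDepth 100000 in
theorem memw : permT cw ciw chkw ∈ H :=
  siftE_sound hLf hFL (code_permT _ _ chkw) (by decide +kernel)
/-- An element. -/
noncomputable def w : G := ⟨permT cw ciw chkw, memw⟩
theorem code_w : E.IsCode ((w : G) : Equiv.Perm (Fin N)) cw := code_permT _ _ chkw
theorem codei_w : E.IsCode ((w⁻¹ : G) : Equiv.Perm (Fin N)) ciw := codei_permT _ _ chkw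
/-- The code of an element. -/
noncomputable def cu : ℕ → ℕ := pgetS 12 4095 cuT
/-- The inverse code of an element. -/
noncomputable def ciu : ℕ → ℕ := pgetS 12 4095 cuI
set_option maxRecDepth 100000 in
theorem chku : chkT (N := N) cu ciu = true := by decide +kernel
set_option maxRecDepth 100000 in
theorem memu : permT cu ciu chku ∈ H :=
  siftE_sound hLf hFL (code_permT _ _ chku) (by decide +kernel)
/-- An element. -/
noncomputable def u : G := ⟨permT cu ciu chku, memu⟩
theorem code_u : E.IsCode ((u : G) : Equiv.Perm (Fin N)) cu := code_permT _ _ chku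
theorem codei_u : E.IsCode ((u⁻¹ : G) : Equiv.Perm (Fin N)) ciu := codei_permT _ _ chku
/-- The code of an element. -/
noncomputable def cx₁ : ℕ → ℕ := pgetS 12 4095 cxT
/-- The inverse code of an element. -/
noncomputable def cix₁ : ℕ → ℕ := pgetS 12 4095 cxI
set_option maxRecDepth 100000 in
theorem chkx₁ : chkT (N := N) cx₁ cix₁ = true := by decide +kernel
set_option maxRecDepth 100000 in
theorem memx₁ : permT cx₁ cix₁ chkx₁ ∈ H :=
  siftE_sound hLf hFL (code_permT _ _ chkx₁) (by decide +kernel)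
/-- An element. -/
noncomputable def x₁ : G := ⟨permT cx₁ cix₁ chkx₁, memx₁⟩
theorem code_x₁ : E.IsCode ((x₁ : G) : Equiv.Perm (Fin N)) cx₁ := code_permT _ _ chkx₁
theorem codei_x₁ : E.IsCode ((x₁⁻¹ : G) : Equiv.Perm (Fin N)) cix₁ := codei_permT _ _ chkx₁
/-- The code of an element. -/
noncomputable def cz0 : ℕ → ℕ := pgetS 12 4095 cz0T
/-- The inverse code of an element. -/
noncomputable def ciz0 : ℕ → ℕ := pgetS 12 4095 cz0I
set_option maxRecDepth 100000 in
theorem chkz0 : chkT (N := N) cz0 ciz0 = true := by decide +kernel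
set_option maxRecDepth 100000 in
theorem memz0 : permT cz0 ciz0 chkz0 ∈ H :=
  siftE_sound hLf hFL (code_permT _ _ chkz0) (by decide +kernel)
/-- An element. -/
noncomputable def z0 : G := ⟨permT cz0 ciz0 chkz0, memz0⟩
theorem code_z0 : E.IsCode ((z0 : G) : Equiv.Perm (Fin N)) cz0 := code_permT _ _ chkz0
theorem codei_z0 : E.IsCode ((z0⁻¹ : G) : Equiv.Perm (Fin N)) ciz0 := codei_permT _ _ chkz0
/-- The code of an element. -/
noncomputable def cz1 : ℕ → ℕ := pgetS 12 4095 cz1T
/-- The inverse code of an element. -/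
noncomputable def ciz1 : ℕ → ℕ := pgetS 12 4095 cz1I
set_option maxRecDepth 100000 in
theorem chkz1 : chkT (N := N) cz1 ciz1 = true := by decide +kernel
set_option maxRecDepth 100000 in
theorem memz1 : permT cz1 ciz1 chkz1 ∈ H :=
  siftE_sound hLf hFL (code_permT _ _ chkz1) (by decide +kernel)
/-- An element. -/
noncomputable def z1 : G := ⟨permT cz1 ciz1 chkz1, memz1⟩
theorem code_z1 : E.IsCode ((z1 : G) : Equiv.Perm (Fin N)) cz1 := code_permT _ _ chkz1
theorem codei_z1 : E.IsCode ((z1⁻¹ : G) : Equiv.Perm (Fin N)) ciz1 := codei_permT _ _ chkz1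
/-- The code of an element. -/
noncomputable def cz2 : ℕ → ℕ := pgetS 12 4095 cz2T
/-- The inverse code of an element. -/
noncomputable def ciz2 : ℕ → ℕ := pgetS 12 4095 cz2I
set_option maxRecDepth 100000 in
theorem chkz2 : chkT (N := N) cz2 ciz2 = true := by decide +kernel
set_option maxRecDepth 100000 in
theorem memz2 : permT cz2 ciz2 chkz2 ∈ H :=
  siftE_sound hLf hFL (code_permT _ _ chkz2) (by decide +kernel)
/-- An element. -/
noncomputable def z2 : G := ⟨permT cz2 ciz2 chkz2, memz2⟩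
theorem code_z2 : E.IsCode ((z2 : G) : Equiv.Perm (Fin N)) cz2 := code_permT _ _ chkz2
theorem codei_z2 : E.IsCode ((z2⁻¹ : G) : Equiv.Perm (Fin N)) ciz2 := codei_permT _ _ chkz2
/-- The code of an element. -/
noncomputable def cz3 : ℕ → ℕ := pgetS 12 4095 cz3T
/-- The inverse code of an element. -/
noncomputable def ciz3 : ℕ → ℕ := pgetS 12 4095 cz3I
set_option maxRecDepth 100000 in
theorem chkz3 : chkT (N := N) cz3 ciz3 = true := by decide +kernel
set_option maxRecDepth 100000 in
theorem memz3 : permT cz3 ciz3 chkz3 ∈ H :=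
  siftE_sound hLf hFL (code_permT _ _ chkz3) (by decide +kernel)
/-- An element. -/
noncomputable def z3 : G := ⟨permT cz3 ciz3 chkz3, memz3⟩
theorem code_z3 : E.IsCode ((z3 : G) : Equiv.Perm (Fin N)) cz3 := code_permT _ _ chkz3
theorem codei_z3 : E.IsCode ((z3⁻¹ : G) : Equiv.Perm (Fin N)) ciz3 := codei_permT _ _ chkz3

theorem w_pow : w ^ 13 = 1 := eq_of_chk based2 lt2 (coe_pow_isCode code_w 13) (isCode_one E) (by decide +kernel)
theorem u_pow : u ^ 6 = 1 := eq_of_chk based2 lt2 (coe_pow_isCode code_u 6) (isCode_one E) (by decide +kernel)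
theorem w_ne : w ≠ 1 := fun h => ne_one_of_code code_w (i := 0) (by norm_num) (by decide +kernel) (congrArg Subtype.val h)
theorem orderOf_w : orderOf w = 13 := by
  have : Fact (Nat.Prime 13) := ⟨by norm_num⟩
  exact orderOf_eq_prime w_pow w_ne
theorem rel_uw : u * w = w ^ 4 * u :=
  eq_of_chk based2 lt2 (coe_code_mul code_u code_w) (coe_code_mul (coe_pow_isCode code_w 4) code_u) (by decide +kernel)
theorem conj_uw : u * w * u⁻¹ = w ^ 4 := by rw [rel_uw]; group


/-- The powers of `w`. -/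
noncomputable def csN (i : ℕ) : ℕ → ℕ := iterN cw i
/-- The levels of a search. -/
noncomputable def LsN1 : List LevX := [⟨L1, eL1, 2, 0, []⟩, ⟨L2, eL2, 2, 0, []⟩, ⟨L3, eL3, 2, 0, []⟩, ⟨L4, eL4, 2, 0, []⟩, ⟨L5, eL5, 2, 0, []⟩]
theorem hLsN1 : ChainSem E H (L0 :: LsN1.map LevX.L) := chainH
theorem hbN1 : basesOf Ls = basesOf (L0 :: LsN1.map LevX.L) := by decide +kernel
set_option maxRecDepth 100000 in
theorem hcovN1 : ∀ Lo ∈ LsN1, covX N cw (iterN cw 1) Lo = true := by decide +kernel
theorem hflN1 : ∀ Lo ∈ LsN1, FastLev N Lo.L Lo.e := by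
  intro Lo h
  simp only [LsN1, List.mem_cons, List.not_mem_nil, or_false] at h
  rcases h with rfl | rfl | rfl | rfl | rfl
  · exact fast1
  · exact fast2
  · exact fast3
  · exact fast4
  · exact fast5
/-- The body of the search for the elements acting on `w` as a power. -/
noncomputable def gN1 : ℕ → Bool := topBodyX N gr cw (iterN cw 1) 13 (leafT (basesOf Ls) cw (iterN cw 1) csN 13) L0 eL0 LsN1
/-- The levels of a search. -/
noncomputable def LsN2 : List LevX := [⟨L1, eL1, 2, 0, []⟩, ⟨L2, eL2, 2, 0, []⟩, ⟨L3, eL3, 2, 0, []⟩, ⟨L4, eL4, 2, 0, []⟩, ⟨L5, eL5, 2, 0, []⟩]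
theorem hLsN2 : ChainSem E H (L0 :: LsN2.map LevX.L) := chainH
theorem hbN2 : basesOf Ls = basesOf (L0 :: LsN2.map LevX.L) := by decide +kernel
set_option maxRecDepth 100000 in
theorem hcovN2 : ∀ Lo ∈ LsN2, covX N cw (iterN cw 2) Lo = true := by decide +kernel
theorem hflN2 : ∀ Lo ∈ LsN2, FastLev N Lo.L Lo.e := by
  intro Lo h
  simp only [LsN2, List.mem_cons, List.not_mem_nil, or_false] at h
  rcases h with rfl | rfl | rfl | rfl | rfl
  · exact fast1
  · exact fast2
  · exact fast3
  · exact fast4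
  · exact fast5
/-- The body of the search for the elements acting on `w` as a power. -/
noncomputable def gN2 : ℕ → Bool := topBodyX N gr cw (iterN cw 2) 13 (leafT (basesOf Ls) cw (iterN cw 2) csN 0) L0 eL0 LsN2
/-- The elements of the centraliser of `u`. -/
noncomputable def csC (i : ℕ) : ℕ → ℕ := fun q => iterN cz0 ((i) % 3) (iterN cz1 (((i) / 3) % 3) (iterN cz2 ((((i) / 3) / 3) % 2) (iterN cz3 (((((i) / 3) / 3) / 2) % 2) (iterN cu (((((i) / 3) / 3) / 2) / 2) q))))
/-- The levels of the search for the centraliser of `u`. -/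
noncomputable def LsC : List LevX := [⟨LU1, eLU1, 2, 0, []⟩, ⟨LU2, eLU2, 2, 0, []⟩, ⟨LU3, eLU3, 0, 0, olU3⟩, ⟨LU4, eLU4, 2, 0, []⟩, ⟨LU5, eLU5, 2, 0, []⟩, ⟨LU6, eLU6, 0, 0, olU6⟩, ⟨LU7, eLU7, 2, 0, []⟩, ⟨LU8, eLU8, 2, 0, []⟩]
theorem hLsC : ChainSem E H (LU0 :: LsC.map LevX.L) := chainHU
theorem hbC : basesOf LsU = basesOf (LU0 :: LsC.map LevX.L) := by decide +kernel
set_option maxRecDepth 100000 in
theorem hcovC : ∀ Lo ∈ LsC, covX N cu cu Lo = true := by decide +kernel
theorem hflC : ∀ Lo ∈ LsC, FastLev N Lo.L Lo.e := by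
  intro Lo h
  simp only [LsC, List.mem_cons, List.not_mem_nil, or_false] at h
  rcases h with rfl | rfl | rfl | rfl | rfl | rfl | rfl | rfl
  · exact fastU1
  · exact fastU2
  · exact fastU3
  · exact fastU4
  · exact fastU5
  · exact fastU6
  · exact fastU7
  · exact fastU8
/-- The body of the search for the centraliser of `u`. -/
noncomputable def gC : ℕ → Bool := topBodyX N gr cu cu 6 (leafT (basesOf LsU) cu cu csC 216) LU0 eLU0 LsC

end Cfsg.Agent.Lib.KnownSimple.Fi22P
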