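import Cfsg.Agent.Lib.KnownSimple.Fi22P.Hom

/-!
# Strong generators
-/

set_option autoImplicit false

namespace Cfsg.Agent.Lib.KnownSimple.Fi22P

open Cfsg Cfsg.Spor Cfsg.Agent.Lib.Compute Cfsg.Agent.Lib.KnownSimple.PE Cfsg.Agent.Lib.KnownSimple.Leech
open Cfsg.Agent.Lib.KnownSimple Cfsg.Agent.Lib.KnownSimple.AutRigid Cfsg.Agent.Lib.KnownSimple.Pres

/-- A strong generator. -/
noncomputable def R9 : G := (D 2) * ((D 1) * ((D 8) * ((D 4) * ((D 0) * ((D 1))))))
/-- The code of a strong generator. -/
noncomputable def cR9 : ℕ → ℕ := pgetS 12 4095 TR9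
/-- The inverse code of a strong generator. -/
noncomputable def ciR9 : ℕ → ℕ := pgetS 12 4095 TI9
set_option maxRecDepth 100000 in
theorem code_R9 : E.IsCode ((R9 : G) : Equiv.Perm (Fin N)) (cR9) :=
  congr_of_chk (coe_code_mul (code_D 2) (coe_code_mul (code_D 1) (coe_code_mul (code_D 8) (coe_code_mul (code_D 4) (coe_code_mul (code_D 0) ((code_D 1))))))) (by decide +kernel)
set_option maxRecDepth 100000 in
theorem codei_R9 : E.IsCode ((R9⁻¹ : G) : Equiv.Perm (Fin N)) (ciR9) :=
  inv_of_chk code_R9 (by decide +kernel)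
/-- A strong generator. -/
noncomputable def R10 : G := (D 6) * ((D 2) * ((D 1) * ((D 3) * ((D 7) * ((D 0))))))
/-- The code of a strong generator. -/
noncomputable def cR10 : ℕ → ℕ := pgetS 12 4095 TR10
/-- The inverse code of a strong generator. -/
noncomputable def ciR10 : ℕ → ℕ := pgetS 12 4095 TI10
set_option maxRecDepth 100000 in
theorem code_R10 : E.IsCode ((R10 : G) : Equiv.Perm (Fin N)) (cR10) :=
  congr_of_chk (coe_code_mul (code_D 6) (coe_code_mul (code_D 2) (coe_code_mul (code_D 1) (coe_code_mul (code_D 3) (coe_code_mul (code_D 7) ((code_D 0))))))) (by decide +kernel)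
set_option maxRecDepth 100000 in
theorem codei_R10 : E.IsCode ((R10⁻¹ : G) : Equiv.Perm (Fin N)) (ciR10) :=
  inv_of_chk code_R10 (by decide +kernel)
/-- A strong generator. -/
noncomputable def R11 : G := (D 4) * ((D 2) * ((D 1) * ((D 0) * ((D 5)))))
/-- The code of a strong generator. -/
noncomputable def cR11 : ℕ → ℕ := pgetS 12 4095 TR11
/-- The inverse code of a strong generator. -/
noncomputable def ciR11 : ℕ → ℕ := pgetS 12 4095 TI11
set_option maxRecDepth 100000 in
theorem code_R11 : E.IsCode ((R11 : G) : Equiv.Perm (Fin N)) (cR11) :=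
  congr_of_chk (coe_code_mul (code_D 4) (coe_code_mul (code_D 2) (coe_code_mul (code_D 1) (coe_code_mul (code_D 0) ((code_D 5)))))) (by decide +kernel)
set_option maxRecDepth 100000 in
theorem codei_R11 : E.IsCode ((R11⁻¹ : G) : Equiv.Perm (Fin N)) (ciR11) :=
  inv_of_chk code_R11 (by decide +kernel)
/-- A strong generator. -/
noncomputable def R12 : G := (D 7) * ((D 3) * ((D 5) * ((D 2))))
/-- The code of a strong generator. -/
noncomputable def cR12 : ℕ → ℕ := pgetS 12 4095 TR12
/-- The inverse code of a strong generator. -/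
noncomputable def ciR12 : ℕ → ℕ := pgetS 12 4095 TI12
set_option maxRecDepth 100000 in
theorem code_R12 : E.IsCode ((R12 : G) : Equiv.Perm (Fin N)) (cR12) :=
  congr_of_chk (coe_code_mul (code_D 7) (coe_code_mul (code_D 3) (coe_code_mul (code_D 5) ((code_D 2))))) (by decide +kernel)
set_option maxRecDepth 100000 in
theorem codei_R12 : E.IsCode ((R12⁻¹ : G) : Equiv.Perm (Fin N)) (ciR12) :=
  inv_of_chk code_R12 (by decide +kernel)
/-- A strong generator. -/
noncomputable def R13 : G := (D 2)⁻¹ * ((D 1)⁻¹ * ((D 0) * ((D 1) * ((D 2)))))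
/-- The code of a strong generator. -/
noncomputable def cR13 : ℕ → ℕ := pgetS 12 4095 TR13
/-- The inverse code of a strong generator. -/
noncomputable def ciR13 : ℕ → ℕ := pgetS 12 4095 TI13
set_option maxRecDepth 100000 in
theorem code_R13 : E.IsCode ((R13 : G) : Equiv.Perm (Fin N)) (cR13) :=
  congr_of_chk (coe_code_mul (codei_D 2) (coe_code_mul (codei_D 1) (coe_code_mul (code_D 0) (coe_code_mul (code_D 1) ((code_D 2)))))) (by decide +kernel)
set_option maxRecDepth 100000 in
theorem codei_R13 : E.IsCode ((R13⁻¹ : G) : Equiv.Perm (Fin N)) (ciR13) :=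
  inv_of_chk code_R13 (by decide +kernel)
/-- A strong generator. -/
noncomputable def R14 : G := (D 0)⁻¹ * ((D 3)⁻¹ * ((D 7)⁻¹ * ((D 6) * ((D 7) * ((D 3) * ((D 0)))))))
/-- The code of a strong generator. -/
noncomputable def cR14 : ℕ → ℕ := pgetS 12 4095 TR14
/-- The inverse code of a strong generator. -/
noncomputable def ciR14 : ℕ → ℕ := pgetS 12 4095 TI14
set_option maxRecDepth 100000 in
theorem code_R14 : E.IsCode ((R14 : G) : Equiv.Perm (Fin N)) (cR14) :=
  congr_of_chk (coe_code_mul (codei_D 0) (coe_code_mul (codei_D 3) (coe_code_mul (codei_D 7) (coe_code_mul (code_D 6) (coe_code_mul (code_D 7) (coe_code_mul (code_D 3) ((code_D 0)))))))) (by decide +kernel)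
set_option maxRecDepth 100000 in
theorem codei_R14 : E.IsCode ((R14⁻¹ : G) : Equiv.Perm (Fin N)) (ciR14) :=
  inv_of_chk code_R14 (by decide +kernel)
/-- A strong generator. -/
noncomputable def R15 : G := (D 1)⁻¹ * ((D 2)⁻¹ * ((D 7) * ((R11) * ((D 8)))))
/-- The code of a strong generator. -/
noncomputable def cR15 : ℕ → ℕ := pgetS 12 4095 TR15
/-- The inverse code of a strong generator. -/
noncomputable def ciR15 : ℕ → ℕ := pgetS 12 4095 TI15
set_option maxRecDepth 100000 in
theorem code_R15 : E.IsCode ((R15 : G) : Equiv.Perm (Fin N)) (cR15) :=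
  congr_of_chk (coe_code_mul (codei_D 1) (coe_code_mul (codei_D 2) (coe_code_mul (code_D 7) (coe_code_mul code_R11 ((code_D 8)))))) (by decide +kernel)
set_option maxRecDepth 100000 in
theorem codei_R15 : E.IsCode ((R15⁻¹ : G) : Equiv.Perm (Fin N)) (ciR15) :=
  inv_of_chk code_R15 (by decide +kernel)
/-- A strong generator. -/
noncomputable def R16 : G := (D 1)⁻¹ * ((D 2)⁻¹ * ((R12) * ((D 5) * ((D 7) * ((D 1))))))
/-- The code of a strong generator. -/
noncomputable def cR16 : ℕ → ℕ := pgetS 12 4095 TR16
/-- The inverse code of a strong generator. -/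
noncomputable def ciR16 : ℕ → ℕ := pgetS 12 4095 TI16
set_option maxRecDepth 100000 in
theorem code_R16 : E.IsCode ((R16 : G) : Equiv.Perm (Fin N)) (cR16) :=
  congr_of_chk (coe_code_mul (codei_D 1) (coe_code_mul (codei_D 2) (coe_code_mul code_R12 (coe_code_mul (code_D 5) (coe_code_mul (code_D 7) ((code_D 1))))))) (by decide +kernel)
set_option maxRecDepth 100000 in
theorem codei_R16 : E.IsCode ((R16⁻¹ : G) : Equiv.Perm (Fin N)) (ciR16) :=
  inv_of_chk code_R16 (by decide +kernel)
/-- A strong generator. -/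
noncomputable def R17 : G := (D 4)⁻¹ * ((R10)⁻¹ * ((D 1)⁻¹ * ((D 0) * ((D 7) * ((D 4) * ((D 3)))))))
/-- The code of a strong generator. -/
noncomputable def cR17 : ℕ → ℕ := pgetS 12 4095 TR17
/-- The inverse code of a strong generator. -/
noncomputable def ciR17 : ℕ → ℕ := pgetS 12 4095 TI17
set_option maxRecDepth 100000 in
theorem code_R17 : E.IsCode ((R17 : G) : Equiv.Perm (Fin N)) (cR17) :=
  congr_of_chk (coe_code_mul (codei_D 4) (coe_code_mul codei_R10 (coe_code_mul (codei_D 1) (coe_code_mul (code_D 0) (coe_code_mul (code_D 7) (coe_code_mul (code_D 4) ((code_D 3)))))))) (by decide +kernel)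
set_option maxRecDepth 100000 in
theorem codei_R17 : E.IsCode ((R17⁻¹ : G) : Equiv.Perm (Fin N)) (ciR17) :=
  inv_of_chk code_R17 (by decide +kernel)
/-- A strong generator. -/
noncomputable def R18 : G := (R14)⁻¹ * ((R13) * ((R14)))
/-- The code of a strong generator. -/
noncomputable def cR18 : ℕ → ℕ := pgetS 12 4095 TR18
/-- The inverse code of a strong generator. -/
noncomputable def ciR18 : ℕ → ℕ := pgetS 12 4095 TI18
set_option maxRecDepth 100000 in
theorem code_R18 : E.IsCode ((R18 : G) : Equiv.Perm (Fin N)) (cR18) :=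
  congr_of_chk (coe_code_mul codei_R14 (coe_code_mul code_R13 (code_R14))) (by decide +kernel)
set_option maxRecDepth 100000 in
theorem codei_R18 : E.IsCode ((R18⁻¹ : G) : Equiv.Perm (Fin N)) (ciR18) :=
  inv_of_chk code_R18 (by decide +kernel)
/-- A strong generator. -/
noncomputable def R19 : G := (R17) * ((R14))
/-- The code of a strong generator. -/
noncomputable def cR19 : ℕ → ℕ := pgetS 12 4095 TR19
/-- The inverse code of a strong generator. -/
noncomputable def ciR19 : ℕ → ℕ := pgetS 12 4095 TI19
set_option maxRecDepth 100000 in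
theorem code_R19 : E.IsCode ((R19 : G) : Equiv.Perm (Fin N)) (cR19) :=
  congr_of_chk (coe_code_mul code_R17 (code_R14)) (by decide +kernel)
set_option maxRecDepth 100000 in
theorem codei_R19 : E.IsCode ((R19⁻¹ : G) : Equiv.Perm (Fin N)) (ciR19) :=
  inv_of_chk code_R19 (by decide +kernel)
/-- A strong generator. -/
noncomputable def R20 : G := (R13)⁻¹ * ((R15)⁻¹ * ((R17) * ((R15) * ((R13)))))
/-- The code of a strong generator. -/
noncomputable def cR20 : ℕ → ℕ := pgetS 12 4095 TR20
/-- The inverse code of a strong generator. -/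
noncomputable def ciR20 : ℕ → ℕ := pgetS 12 4095 TI20
set_option maxRecDepth 100000 in
theorem code_R20 : E.IsCode ((R20 : G) : Equiv.Perm (Fin N)) (cR20) :=
  congr_of_chk (coe_code_mul codei_R13 (coe_code_mul codei_R15 (coe_code_mul code_R17 (coe_code_mul code_R15 (code_R13))))) (by decide +kernel)
set_option maxRecDepth 100000 in
theorem codei_R20 : E.IsCode ((R20⁻¹ : G) : Equiv.Perm (Fin N)) (ciR20) :=
  inv_of_chk code_R20 (by decide +kernel)
/-- A strong generator. -/
noncomputable def R21 : G := (R16)⁻¹ * ((R15)⁻¹ * ((R13) * ((R15) * ((R16)))))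
/-- The code of a strong generator. -/
noncomputable def cR21 : ℕ → ℕ := pgetS 12 4095 TR21
/-- The inverse code of a strong generator. -/
noncomputable def ciR21 : ℕ → ℕ := pgetS 12 4095 TI21
set_option maxRecDepth 100000 in
theorem code_R21 : E.IsCode ((R21 : G) : Equiv.Perm (Fin N)) (cR21) :=
  congr_of_chk (coe_code_mul codei_R16 (coe_code_mul codei_R15 (coe_code_mul code_R13 (coe_code_mul code_R15 (code_R16))))) (by decide +kernel)
set_option maxRecDepth 100000 in
theorem codei_R21 : E.IsCode ((R21⁻¹ : G) : Equiv.Perm (Fin N)) (ciR21) :=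
  inv_of_chk code_R21 (by decide +kernel)
/-- A strong generator. -/
noncomputable def R22 : G := (R16)⁻¹ * ((R15)⁻¹ * ((R16) * ((R15) * ((R16)))))
/-- The code of a strong generator. -/
noncomputable def cR22 : ℕ → ℕ := pgetS 12 4095 TR22
/-- The inverse code of a strong generator. -/
noncomputable def ciR22 : ℕ → ℕ := pgetS 12 4095 TI22
set_option maxRecDepth 100000 in
theorem code_R22 : E.IsCode ((R22 : G) : Equiv.Perm (Fin N)) (cR22) :=
  congr_of_chk (coe_code_mul codei_R16 (coe_code_mul codei_R15 (coe_code_mul code_R16 (coe_code_mul code_R15 (code_R16))))) (by decide +kernel)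
set_option maxRecDepth 100000 in
theorem codei_R22 : E.IsCode ((R22⁻¹ : G) : Equiv.Perm (Fin N)) (ciR22) :=
  inv_of_chk code_R22 (by decide +kernel)
/-- A strong generator. -/
noncomputable def R23 : G := (R13)⁻¹ * ((R15)⁻¹ * ((R16)⁻¹ * ((R15)⁻¹ * ((R16) * ((R15) * ((R16) * ((R15) * ((R13)))))))))
/-- The code of a strong generator. -/
noncomputable def cR23 : ℕ → ℕ := pgetS 12 4095 TR23
/-- The inverse code of a strong generator. -/
noncomputable def ciR23 : ℕ → ℕ := pgetS 12 4095 TI23
set_option maxRecDepth 100000 in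
theorem code_R23 : E.IsCode ((R23 : G) : Equiv.Perm (Fin N)) (cR23) :=
  congr_of_chk (coe_code_mul codei_R13 (coe_code_mul codei_R15 (coe_code_mul codei_R16 (coe_code_mul codei_R15 (coe_code_mul code_R16 (coe_code_mul code_R15 (coe_code_mul code_R16 (coe_code_mul code_R15 (code_R13))))))))) (by decide +kernel)
set_option maxRecDepth 100000 in
theorem codei_R23 : E.IsCode ((R23⁻¹ : G) : Equiv.Perm (Fin N)) (ciR23) :=
  inv_of_chk code_R23 (by decide +kernel)
/-- A strong generator. -/
noncomputable def R24 : G := (R15)⁻¹ * ((R17)⁻¹ * ((R13)⁻¹ * ((R15)⁻¹ * ((R13) * ((R15) * ((R13) * ((R17) * ((R15)))))))))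
/-- The code of a strong generator. -/
noncomputable def cR24 : ℕ → ℕ := pgetS 12 4095 TR24
/-- The inverse code of a strong generator. -/
noncomputable def ciR24 : ℕ → ℕ := pgetS 12 4095 TI24
set_option maxRecDepth 100000 in
theorem code_R24 : E.IsCode ((R24 : G) : Equiv.Perm (Fin N)) (cR24) :=
  congr_of_chk (coe_code_mul codei_R15 (coe_code_mul codei_R17 (coe_code_mul codei_R13 (coe_code_mul codei_R15 (coe_code_mul code_R13 (coe_code_mul code_R15 (coe_code_mul code_R13 (coe_code_mul code_R17 (code_R15))))))))) (by decide +kernel)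
set_option maxRecDepth 100000 in
theorem codei_R24 : E.IsCode ((R24⁻¹ : G) : Equiv.Perm (Fin N)) (ciR24) :=
  inv_of_chk code_R24 (by decide +kernel)
/-- A strong generator. -/
noncomputable def R25 : G := (R18)⁻¹ * ((R21) * ((R18)))
/-- The code of a strong generator. -/
noncomputable def cR25 : ℕ → ℕ := pgetS 12 4095 TR25
/-- The inverse code of a strong generator. -/
noncomputable def ciR25 : ℕ → ℕ := pgetS 12 4095 TI25
set_option maxRecDepth 100000 in
theorem code_R25 : E.IsCode ((R25 : G) : Equiv.Perm (Fin N)) (cR25) :=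
  congr_of_chk (coe_code_mul codei_R18 (coe_code_mul code_R21 (code_R18))) (by decide +kernel)
set_option maxRecDepth 100000 in
theorem codei_R25 : E.IsCode ((R25⁻¹ : G) : Equiv.Perm (Fin N)) (ciR25) :=
  inv_of_chk code_R25 (by decide +kernel)
/-- A strong generator. -/
noncomputable def R26 : G := (R18)⁻¹ * ((R24) * ((R18)))
/-- The code of a strong generator. -/
noncomputable def cR26 : ℕ → ℕ := pgetS 12 4095 TR26
/-- The inverse code of a strong generator. -/
noncomputable def ciR26 : ℕ → ℕ := pgetS 12 4095 TI26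
set_option maxRecDepth 100000 in
theorem code_R26 : E.IsCode ((R26 : G) : Equiv.Perm (Fin N)) (cR26) :=
  congr_of_chk (coe_code_mul codei_R18 (coe_code_mul code_R24 (code_R18))) (by decide +kernel)
set_option maxRecDepth 100000 in
theorem codei_R26 : E.IsCode ((R26⁻¹ : G) : Equiv.Perm (Fin N)) (ciR26) :=
  inv_of_chk code_R26 (by decide +kernel)
/-- A strong generator. -/
noncomputable def R27 : G := (R19)⁻¹ * ((R24) * ((R19)))
/-- The code of a strong generator. -/
noncomputable def cR27 : ℕ → ℕ := pgetS 12 4095 TR27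
/-- The inverse code of a strong generator. -/
noncomputable def ciR27 : ℕ → ℕ := pgetS 12 4095 TI27
set_option maxRecDepth 100000 in
theorem code_R27 : E.IsCode ((R27 : G) : Equiv.Perm (Fin N)) (cR27) :=
  congr_of_chk (coe_code_mul codei_R19 (coe_code_mul code_R24 (code_R19))) (by decide +kernel)
set_option maxRecDepth 100000 in
theorem codei_R27 : E.IsCode ((R27⁻¹ : G) : Equiv.Perm (Fin N)) (ciR27) :=
  inv_of_chk code_R27 (by decide +kernel)
/-- A strong generator. -/
noncomputable def R28 : G := (R22)⁻¹ * ((R24) * ((R22)))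
/-- The code of a strong generator. -/
noncomputable def cR28 : ℕ → ℕ := pgetS 12 4095 TR28
/-- The inverse code of a strong generator. -/
noncomputable def ciR28 : ℕ → ℕ := pgetS 12 4095 TI28
set_option maxRecDepth 100000 in
theorem code_R28 : E.IsCode ((R28 : G) : Equiv.Perm (Fin N)) (cR28) :=
  congr_of_chk (coe_code_mul codei_R22 (coe_code_mul code_R24 (code_R22))) (by decide +kernel)
set_option maxRecDepth 100000 in
theorem codei_R28 : E.IsCode ((R28⁻¹ : G) : Equiv.Perm (Fin N)) (ciR28) :=
  inv_of_chk code_R28 (by decide +kernel)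
/-- A strong generator. -/
noncomputable def R29 : G := (R24)⁻¹ * ((R20) * ((R24)))
/-- The code of a strong generator. -/
noncomputable def cR29 : ℕ → ℕ := pgetS 12 4095 TR29
/-- The inverse code of a strong generator. -/
noncomputable def ciR29 : ℕ → ℕ := pgetS 12 4095 TI29
set_option maxRecDepth 100000 in
theorem code_R29 : E.IsCode ((R29 : G) : Equiv.Perm (Fin N)) (cR29) :=
  congr_of_chk (coe_code_mul codei_R24 (coe_code_mul code_R20 (code_R24))) (by decide +kernel)
set_option maxRecDepth 100000 in
theorem codei_R29 : E.IsCode ((R29⁻¹ : G) : Equiv.Perm (Fin N)) (ciR29) :=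
  inv_of_chk code_R29 (by decide +kernel)
/-- A strong generator. -/
noncomputable def R30 : G := (R19)⁻¹ * ((R20)⁻¹ * ((R24) * ((R20) * ((R19)))))
/-- The code of a strong generator. -/
noncomputable def cR30 : ℕ → ℕ := pgetS 12 4095 TR30
/-- The inverse code of a strong generator. -/
noncomputable def ciR30 : ℕ → ℕ := pgetS 12 4095 TI30
set_option maxRecDepth 100000 in
theorem code_R30 : E.IsCode ((R30 : G) : Equiv.Perm (Fin N)) (cR30) :=
  congr_of_chk (coe_code_mul codei_R19 (coe_code_mul codei_R20 (coe_code_mul code_R24 (coe_code_mul code_R20 (code_R19))))) (by decide +kernel)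
set_option maxRecDepth 100000 in
theorem codei_R30 : E.IsCode ((R30⁻¹ : G) : Equiv.Perm (Fin N)) (ciR30) :=
  inv_of_chk code_R30 (by decide +kernel)
/-- A strong generator. -/
noncomputable def R31 : G := (R23)⁻¹ * ((R24) * ((R23)))
/-- The code of a strong generator. -/
noncomputable def cR31 : ℕ → ℕ := pgetS 12 4095 TR31
/-- The inverse code of a strong generator. -/
noncomputable def ciR31 : ℕ → ℕ := pgetS 12 4095 TI31
set_option maxRecDepth 100000 in
theorem code_R31 : E.IsCode ((R31 : G) : Equiv.Perm (Fin N)) (cR31) :=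
  congr_of_chk (coe_code_mul codei_R23 (coe_code_mul code_R24 (code_R23))) (by decide +kernel)
set_option maxRecDepth 100000 in
theorem codei_R31 : E.IsCode ((R31⁻¹ : G) : Equiv.Perm (Fin N)) (ciR31) :=
  inv_of_chk code_R31 (by decide +kernel)
/-- A strong generator. -/
noncomputable def R32 : G := (R19)⁻¹ * ((R21)⁻¹ * ((R19)⁻¹ * ((R24) * ((R23) * ((R22) * ((R21)))))))
/-- The code of a strong generator. -/
noncomputable def cR32 : ℕ → ℕ := pgetS 12 4095 TR32
/-- The inverse code of a strong generator. -/
noncomputable def ciR32 : ℕ → ℕ := pgetS 12 4095 TI32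
set_option maxRecDepth 100000 in
theorem code_R32 : E.IsCode ((R32 : G) : Equiv.Perm (Fin N)) (cR32) :=
  congr_of_chk (coe_code_mul codei_R19 (coe_code_mul codei_R21 (coe_code_mul codei_R19 (coe_code_mul code_R24 (coe_code_mul code_R23 (coe_code_mul code_R22 (code_R21))))))) (by decide +kernel)
set_option maxRecDepth 100000 in
theorem codei_R32 : E.IsCode ((R32⁻¹ : G) : Equiv.Perm (Fin N)) (ciR32) :=
  inv_of_chk code_R32 (by decide +kernel)
/-- A strong generator. -/
noncomputable def R33 : G := (R25)
/-- The code of a strong generator. -/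
noncomputable def cR33 : ℕ → ℕ := pgetS 12 4095 TR33
/-- The inverse code of a strong generator. -/
noncomputable def ciR33 : ℕ → ℕ := pgetS 12 4095 TI33
set_option maxRecDepth 100000 in
theorem code_R33 : E.IsCode ((R33 : G) : Equiv.Perm (Fin N)) (cR33) :=
  congr_of_chk (code_R25) (by decide +kernel)
set_option maxRecDepth 100000 in
theorem codei_R33 : E.IsCode ((R33⁻¹ : G) : Equiv.Perm (Fin N)) (ciR33) :=
  inv_of_chk code_R33 (by decide +kernel)
/-- A strong generator. -/
noncomputable def R34 : G := (R26)⁻¹ * ((R29))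
/-- The code of a strong generator. -/
noncomputable def cR34 : ℕ → ℕ := pgetS 12 4095 TR34
/-- The inverse code of a strong generator. -/
noncomputable def ciR34 : ℕ → ℕ := pgetS 12 4095 TI34
set_option maxRecDepth 100000 in
theorem code_R34 : E.IsCode ((R34 : G) : Equiv.Perm (Fin N)) (cR34) :=
  congr_of_chk (coe_code_mul codei_R26 (code_R29)) (by decide +kernel)
set_option maxRecDepth 100000 in
theorem codei_R34 : E.IsCode ((R34⁻¹ : G) : Equiv.Perm (Fin N)) (ciR34) :=
  inv_of_chk code_R34 (by decide +kernel)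
/-- A strong generator. -/
noncomputable def R35 : G := (R26)⁻¹ * ((R25)⁻¹ * ((R28) * ((R25) * ((R26)))))
/-- The code of a strong generator. -/
noncomputable def cR35 : ℕ → ℕ := pgetS 12 4095 TR35
/-- The inverse code of a strong generator. -/
noncomputable def ciR35 : ℕ → ℕ := pgetS 12 4095 TI35
set_option maxRecDepth 100000 in
theorem code_R35 : E.IsCode ((R35 : G) : Equiv.Perm (Fin N)) (cR35) :=
  congr_of_chk (coe_code_mul codei_R26 (coe_code_mul codei_R25 (coe_code_mul code_R28 (coe_code_mul code_R25 (code_R26))))) (by decide +kernel)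
set_option maxRecDepth 100000 in
theorem codei_R35 : E.IsCode ((R35⁻¹ : G) : Equiv.Perm (Fin N)) (ciR35) :=
  inv_of_chk code_R35 (by decide +kernel)
/-- A strong generator. -/
noncomputable def R36 : G := (R26)⁻¹ * ((R25)⁻¹ * ((R30) * ((R25) * ((R26)))))
/-- The code of a strong generator. -/
noncomputable def cR36 : ℕ → ℕ := pgetS 12 4095 TR36
/-- The inverse code of a strong generator. -/
noncomputable def ciR36 : ℕ → ℕ := pgetS 12 4095 TI36
set_option maxRecDepth 100000 in
theorem code_R36 : E.IsCode ((R36 : G) : Equiv.Perm (Fin N)) (cR36) :=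
  congr_of_chk (coe_code_mul codei_R26 (coe_code_mul codei_R25 (coe_code_mul code_R30 (coe_code_mul code_R25 (code_R26))))) (by decide +kernel)
set_option maxRecDepth 100000 in
theorem codei_R36 : E.IsCode ((R36⁻¹ : G) : Equiv.Perm (Fin N)) (ciR36) :=
  inv_of_chk code_R36 (by decide +kernel)
/-- A strong generator. -/
noncomputable def R37 : G := (R26)⁻¹ * ((R27)⁻¹ * ((R25) * ((R32))))
/-- The code of a strong generator. -/
noncomputable def cR37 : ℕ → ℕ := pgetS 12 4095 TR37
/-- The inverse code of a strong generator. -/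
noncomputable def ciR37 : ℕ → ℕ := pgetS 12 4095 TI37
set_option maxRecDepth 100000 in
theorem code_R37 : E.IsCode ((R37 : G) : Equiv.Perm (Fin N)) (cR37) :=
  congr_of_chk (coe_code_mul codei_R26 (coe_code_mul codei_R27 (coe_code_mul code_R25 (code_R32)))) (by decide +kernel)
set_option maxRecDepth 100000 in
theorem codei_R37 : E.IsCode ((R37⁻¹ : G) : Equiv.Perm (Fin N)) (ciR37) :=
  inv_of_chk code_R37 (by decide +kernel)
/-- A strong generator. -/
noncomputable def R38 : G := (R32) * ((R31) * ((R28)))
/-- The code of a strong generator. -/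
noncomputable def cR38 : ℕ → ℕ := pgetS 12 4095 TR38
/-- The inverse code of a strong generator. -/
noncomputable def ciR38 : ℕ → ℕ := pgetS 12 4095 TI38
set_option maxRecDepth 100000 in
theorem code_R38 : E.IsCode ((R38 : G) : Equiv.Perm (Fin N)) (cR38) :=
  congr_of_chk (coe_code_mul code_R32 (coe_code_mul code_R31 (code_R28))) (by decide +kernel)
set_option maxRecDepth 100000 in
theorem codei_R38 : E.IsCode ((R38⁻¹ : G) : Equiv.Perm (Fin N)) (ciR38) :=
  inv_of_chk code_R38 (by decide +kernel)
/-- A strong generator. -/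
noncomputable def R39 : G := (R34)
/-- The code of a strong generator. -/
noncomputable def cR39 : ℕ → ℕ := pgetS 12 4095 TR39
/-- The inverse code of a strong generator. -/
noncomputable def ciR39 : ℕ → ℕ := pgetS 12 4095 TI39
set_option maxRecDepth 100000 in
theorem code_R39 : E.IsCode ((R39 : G) : Equiv.Perm (Fin N)) (cR39) :=
  congr_of_chk (code_R34) (by decide +kernel)
set_option maxRecDepth 100000 in
theorem codei_R39 : E.IsCode ((R39⁻¹ : G) : Equiv.Perm (Fin N)) (ciR39) :=
  inv_of_chk code_R39 (by decide +kernel)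
/-- A strong generator. -/
noncomputable def R40 : G := (R36)
/-- The code of a strong generator. -/
noncomputable def cR40 : ℕ → ℕ := pgetS 12 4095 TR40
/-- The inverse code of a strong generator. -/
noncomputable def ciR40 : ℕ → ℕ := pgetS 12 4095 TI40
set_option maxRecDepth 100000 in
theorem code_R40 : E.IsCode ((R40 : G) : Equiv.Perm (Fin N)) (cR40) :=
  congr_of_chk (code_R36) (by decide +kernel)
set_option maxRecDepth 100000 in
theorem codei_R40 : E.IsCode ((R40⁻¹ : G) : Equiv.Perm (Fin N)) (ciR40) :=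
  inv_of_chk code_R40 (by decide +kernel)
/-- A strong generator. -/
noncomputable def R41 : G := (R38) * ((R38) * ((R38)))
/-- The code of a strong generator. -/
noncomputable def cR41 : ℕ → ℕ := pgetS 12 4095 TR41
/-- The inverse code of a strong generator. -/
noncomputable def ciR41 : ℕ → ℕ := pgetS 12 4095 TI41
set_option maxRecDepth 100000 in
theorem code_R41 : E.IsCode ((R41 : G) : Equiv.Perm (Fin N)) (cR41) :=
  congr_of_chk (coe_code_mul code_R38 (coe_code_mul code_R38 (code_R38))) (by decide +kernel)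
set_option maxRecDepth 100000 in
theorem codei_R41 : E.IsCode ((R41⁻¹ : G) : Equiv.Perm (Fin N)) (ciR41) :=
  inv_of_chk code_R41 (by decide +kernel)

end Cfsg.Agent.Lib.KnownSimple.Fi22P
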