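import Cfsg.Agent.Lib.KnownSimple.Fi22P.Chain
import Cfsg.Agent.Lib.KnownSimple.Fi22P.DataTU
import Cfsg.Agent.Lib.KnownSimple.Fi22P.DataLU

/-!
# Strong generators
-/

set_option autoImplicit false

namespace Cfsg.Agent.Lib.KnownSimple.Fi22P

open Cfsg Cfsg.Spor Cfsg.Agent.Lib.Compute Cfsg.Agent.Lib.KnownSimple.PE Cfsg.Agent.Lib.KnownSimple.Leech
open Cfsg.Agent.Lib.KnownSimple Cfsg.Agent.Lib.KnownSimple.AutRigid Cfsg.Agent.Lib.KnownSimple.Pres

/-- A strong generator. -/
noncomputable def RU9 : G := (D 2) * ((D 1) * ((D 8) * ((D 4) * ((D 0) * ((D 1))))))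
/-- The code of a strong generator. -/
noncomputable def cRU9 : ℕ → ℕ := pgetS 12 4095 TRU9
/-- The inverse code of a strong generator. -/
noncomputable def ciRU9 : ℕ → ℕ := pgetS 12 4095 TIU9
set_option maxRecDepth 100000 in
theorem code_RU9 : E.IsCode ((RU9 : G) : Equiv.Perm (Fin N)) (cRU9) :=
  congr_of_chk (coe_code_mul (code_D 2) (coe_code_mul (code_D 1) (coe_code_mul (code_D 8) (coe_code_mul (code_D 4) (coe_code_mul (code_D 0) ((code_D 1))))))) (by decide +kernel)
set_option maxRecDepth 100000 in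
theorem codei_RU9 : E.IsCode ((RU9⁻¹ : G) : Equiv.Perm (Fin N)) (ciRU9) :=
  inv_of_chk code_RU9 (by decide +kernel)
/-- A strong generator. -/
noncomputable def RU10 : G := (D 6) * ((D 2) * ((D 1) * ((D 3) * ((D 7) * ((D 0))))))
/-- The code of a strong generator. -/
noncomputable def cRU10 : ℕ → ℕ := pgetS 12 4095 TRU10
/-- The inverse code of a strong generator. -/
noncomputable def ciRU10 : ℕ → ℕ := pgetS 12 4095 TIU10
set_option maxRecDepth 100000 in
theorem code_RU10 : E.IsCode ((RU10 : G) : Equiv.Perm (Fin N)) (cRU10) :=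
  congr_of_chk (coe_code_mul (code_D 6) (coe_code_mul (code_D 2) (coe_code_mul (code_D 1) (coe_code_mul (code_D 3) (coe_code_mul (code_D 7) ((code_D 0))))))) (by decide +kernel)
set_option maxRecDepth 100000 in
theorem codei_RU10 : E.IsCode ((RU10⁻¹ : G) : Equiv.Perm (Fin N)) (ciRU10) :=
  inv_of_chk code_RU10 (by decide +kernel)
/-- A strong generator. -/
noncomputable def RU11 : G := (D 4) * ((D 2) * ((D 1) * ((D 0) * ((D 5)))))
/-- The code of a strong generator. -/
noncomputable def cRU11 : ℕ → ℕ := pgetS 12 4095 TRU11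
/-- The inverse code of a strong generator. -/
noncomputable def ciRU11 : ℕ → ℕ := pgetS 12 4095 TIU11
set_option maxRecDepth 100000 in
theorem code_RU11 : E.IsCode ((RU11 : G) : Equiv.Perm (Fin N)) (cRU11) :=
  congr_of_chk (coe_code_mul (code_D 4) (coe_code_mul (code_D 2) (coe_code_mul (code_D 1) (coe_code_mul (code_D 0) ((code_D 5)))))) (by decide +kernel)
set_option maxRecDepth 100000 in
theorem codei_RU11 : E.IsCode ((RU11⁻¹ : G) : Equiv.Perm (Fin N)) (ciRU11) :=
  inv_of_chk code_RU11 (by decide +kernel)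
/-- A strong generator. -/
noncomputable def RU12 : G := (D 7) * ((D 3) * ((D 5) * ((D 2))))
/-- The code of a strong generator. -/
noncomputable def cRU12 : ℕ → ℕ := pgetS 12 4095 TRU12
/-- The inverse code of a strong generator. -/
noncomputable def ciRU12 : ℕ → ℕ := pgetS 12 4095 TIU12
set_option maxRecDepth 100000 in
theorem code_RU12 : E.IsCode ((RU12 : G) : Equiv.Perm (Fin N)) (cRU12) :=
  congr_of_chk (coe_code_mul (code_D 7) (coe_code_mul (code_D 3) (coe_code_mul (code_D 5) ((code_D 2))))) (by decide +kernel)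
set_option maxRecDepth 100000 in
theorem codei_RU12 : E.IsCode ((RU12⁻¹ : G) : Equiv.Perm (Fin N)) (ciRU12) :=
  inv_of_chk code_RU12 (by decide +kernel)
/-- A strong generator. -/
noncomputable def RU13 : G := (D 1)⁻¹ * ((D 5) * ((D 1)))
/-- The code of a strong generator. -/
noncomputable def cRU13 : ℕ → ℕ := pgetS 12 4095 TRU13
/-- The inverse code of a strong generator. -/
noncomputable def ciRU13 : ℕ → ℕ := pgetS 12 4095 TIU13
set_option maxRecDepth 100000 in
theorem code_RU13 : E.IsCode ((RU13 : G) : Equiv.Perm (Fin N)) (cRU13) :=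
  congr_of_chk (coe_code_mul (codei_D 1) (coe_code_mul (code_D 5) ((code_D 1)))) (by decide +kernel)
set_option maxRecDepth 100000 in
theorem codei_RU13 : E.IsCode ((RU13⁻¹ : G) : Equiv.Perm (Fin N)) (ciRU13) :=
  inv_of_chk code_RU13 (by decide +kernel)
/-- A strong generator. -/
noncomputable def RU14 : G := (D 2)⁻¹ * ((D 8)⁻¹ * ((D 4) * ((D 8) * ((D 2)))))
/-- The code of a strong generator. -/
noncomputable def cRU14 : ℕ → ℕ := pgetS 12 4095 TRU14
/-- The inverse code of a strong generator. -/
noncomputable def ciRU14 : ℕ → ℕ := pgetS 12 4095 TIU14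
set_option maxRecDepth 100000 in
theorem code_RU14 : E.IsCode ((RU14 : G) : Equiv.Perm (Fin N)) (cRU14) :=
  congr_of_chk (coe_code_mul (codei_D 2) (coe_code_mul (codei_D 8) (coe_code_mul (code_D 4) (coe_code_mul (code_D 8) ((code_D 2)))))) (by decide +kernel)
set_option maxRecDepth 100000 in
theorem codei_RU14 : E.IsCode ((RU14⁻¹ : G) : Equiv.Perm (Fin N)) (ciRU14) :=
  inv_of_chk code_RU14 (by decide +kernel)
/-- A strong generator. -/
noncomputable def RU15 : G := (D 7)⁻¹ * ((D 8)⁻¹ * ((D 2) * ((D 8) * ((RU12)⁻¹))))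
/-- The code of a strong generator. -/
noncomputable def cRU15 : ℕ → ℕ := pgetS 12 4095 TRU15
/-- The inverse code of a strong generator. -/
noncomputable def ciRU15 : ℕ → ℕ := pgetS 12 4095 TIU15
set_option maxRecDepth 100000 in
theorem code_RU15 : E.IsCode ((RU15 : G) : Equiv.Perm (Fin N)) (cRU15) :=
  congr_of_chk (coe_code_mul (codei_D 7) (coe_code_mul (codei_D 8) (coe_code_mul (code_D 2) (coe_code_mul (code_D 8) (codei_RU12))))) (by decide +kernel)
set_option maxRecDepth 100000 in
theorem codei_RU15 : E.IsCode ((RU15⁻¹ : G) : Equiv.Perm (Fin N)) (ciRU15) :=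
  inv_of_chk code_RU15 (by decide +kernel)
/-- A strong generator. -/
noncomputable def RU16 : G := (D 2)⁻¹ * ((RU11)⁻¹ * ((D 2) * ((D 4) * ((D 1) * ((D 2))))))
/-- The code of a strong generator. -/
noncomputable def cRU16 : ℕ → ℕ := pgetS 12 4095 TRU16
/-- The inverse code of a strong generator. -/
noncomputable def ciRU16 : ℕ → ℕ := pgetS 12 4095 TIU16
set_option maxRecDepth 100000 in
theorem code_RU16 : E.IsCode ((RU16 : G) : Equiv.Perm (Fin N)) (cRU16) :=
  congr_of_chk (coe_code_mul (codei_D 2) (coe_code_mul codei_RU11 (coe_code_mul (code_D 2) (coe_code_mul (code_D 4) (coe_code_mul (code_D 1) ((code_D 2))))))) (by decide +kernel)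
set_option maxRecDepth 100000 in
theorem codei_RU16 : E.IsCode ((RU16⁻¹ : G) : Equiv.Perm (Fin N)) (ciRU16) :=
  inv_of_chk code_RU16 (by decide +kernel)
/-- A strong generator. -/
noncomputable def RU17 : G := (D 8)⁻¹ * ((D 5)⁻¹ * ((RU11) * ((D 8) * ((D 1) * ((D 2))))))
/-- The code of a strong generator. -/
noncomputable def cRU17 : ℕ → ℕ := pgetS 12 4095 TRU17
/-- The inverse code of a strong generator. -/
noncomputable def ciRU17 : ℕ → ℕ := pgetS 12 4095 TIU17
set_option maxRecDepth 100000 in
theorem code_RU17 : E.IsCode ((RU17 : G) : Equiv.Perm (Fin N)) (cRU17) :=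
  congr_of_chk (coe_code_mul (codei_D 8) (coe_code_mul (codei_D 5) (coe_code_mul code_RU11 (coe_code_mul (code_D 8) (coe_code_mul (code_D 1) ((code_D 2))))))) (by decide +kernel)
set_option maxRecDepth 100000 in
theorem codei_RU17 : E.IsCode ((RU17⁻¹ : G) : Equiv.Perm (Fin N)) (ciRU17) :=
  inv_of_chk code_RU17 (by decide +kernel)
/-- A strong generator. -/
noncomputable def RU18 : G := (D 6)⁻¹ * ((RU11) * ((D 4)⁻¹ * ((D 1) * ((D 5) * ((D 8) * ((D 2)))))))
/-- The code of a strong generator. -/
noncomputable def cRU18 : ℕ → ℕ := pgetS 12 4095 TRU18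
/-- The inverse code of a strong generator. -/
noncomputable def ciRU18 : ℕ → ℕ := pgetS 12 4095 TIU18
set_option maxRecDepth 100000 in
theorem code_RU18 : E.IsCode ((RU18 : G) : Equiv.Perm (Fin N)) (cRU18) :=
  congr_of_chk (coe_code_mul (codei_D 6) (coe_code_mul code_RU11 (coe_code_mul (codei_D 4) (coe_code_mul (code_D 1) (coe_code_mul (code_D 5) (coe_code_mul (code_D 8) ((code_D 2)))))))) (by decide +kernel)
set_option maxRecDepth 100000 in
theorem codei_RU18 : E.IsCode ((RU18⁻¹ : G) : Equiv.Perm (Fin N)) (ciRU18) :=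
  inv_of_chk code_RU18 (by decide +kernel)
/-- A strong generator. -/
noncomputable def RU19 : G := (D 8)⁻¹ * ((RU11) * ((RU12)⁻¹ * ((D 1) * ((D 2) * ((D 1))))))
/-- The code of a strong generator. -/
noncomputable def cRU19 : ℕ → ℕ := pgetS 12 4095 TRU19
/-- The inverse code of a strong generator. -/
noncomputable def ciRU19 : ℕ → ℕ := pgetS 12 4095 TIU19
set_option maxRecDepth 100000 in
theorem code_RU19 : E.IsCode ((RU19 : G) : Equiv.Perm (Fin N)) (cRU19) :=
  congr_of_chk (coe_code_mul (codei_D 8) (coe_code_mul code_RU11 (coe_code_mul codei_RU12 (coe_code_mul (code_D 1) (coe_code_mul (code_D 2) ((code_D 1))))))) (by decide +kernel)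
set_option maxRecDepth 100000 in
theorem codei_RU19 : E.IsCode ((RU19⁻¹ : G) : Equiv.Perm (Fin N)) (ciRU19) :=
  inv_of_chk code_RU19 (by decide +kernel)
/-- A strong generator. -/
noncomputable def RU20 : G := (D 1)⁻¹ * ((D 7)⁻¹ * ((D 4)⁻¹ * ((D 8)⁻¹ * ((D 1) * ((RU11)⁻¹ * ((RU12)⁻¹ * ((D 8) * ((D 1)))))))))
/-- The code of a strong generator. -/
noncomputable def cRU20 : ℕ → ℕ := pgetS 12 4095 TRU20
/-- The inverse code of a strong generator. -/
noncomputable def ciRU20 : ℕ → ℕ := pgetS 12 4095 TIU20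
set_option maxRecDepth 100000 in
theorem code_RU20 : E.IsCode ((RU20 : G) : Equiv.Perm (Fin N)) (cRU20) :=
  congr_of_chk (coe_code_mul (codei_D 1) (coe_code_mul (codei_D 7) (coe_code_mul (codei_D 4) (coe_code_mul (codei_D 8) (coe_code_mul (code_D 1) (coe_code_mul codei_RU11 (coe_code_mul codei_RU12 (coe_code_mul (code_D 8) ((code_D 1)))))))))) (by decide +kernel)
set_option maxRecDepth 100000 in
theorem codei_RU20 : E.IsCode ((RU20⁻¹ : G) : Equiv.Perm (Fin N)) (ciRU20) :=
  inv_of_chk code_RU20 (by decide +kernel)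
/-- A strong generator. -/
noncomputable def RU21 : G := (RU15)
/-- The code of a strong generator. -/
noncomputable def cRU21 : ℕ → ℕ := pgetS 12 4095 TRU21
/-- The inverse code of a strong generator. -/
noncomputable def ciRU21 : ℕ → ℕ := pgetS 12 4095 TIU21
set_option maxRecDepth 100000 in
theorem code_RU21 : E.IsCode ((RU21 : G) : Equiv.Perm (Fin N)) (cRU21) :=
  congr_of_chk (code_RU15) (by decide +kernel)
set_option maxRecDepth 100000 in
theorem codei_RU21 : E.IsCode ((RU21⁻¹ : G) : Equiv.Perm (Fin N)) (ciRU21) :=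
  inv_of_chk code_RU21 (by decide +kernel)
/-- A strong generator. -/
noncomputable def RU22 : G := (RU20)⁻¹ * ((RU13) * ((RU20)))
/-- The code of a strong generator. -/
noncomputable def cRU22 : ℕ → ℕ := pgetS 12 4095 TRU22
/-- The inverse code of a strong generator. -/
noncomputable def ciRU22 : ℕ → ℕ := pgetS 12 4095 TIU22
set_option maxRecDepth 100000 in
theorem code_RU22 : E.IsCode ((RU22 : G) : Equiv.Perm (Fin N)) (cRU22) :=
  congr_of_chk (coe_code_mul codei_RU20 (coe_code_mul code_RU13 (code_RU20))) (by decide +kernel)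
set_option maxRecDepth 100000 in
theorem codei_RU22 : E.IsCode ((RU22⁻¹ : G) : Equiv.Perm (Fin N)) (ciRU22) :=
  inv_of_chk code_RU22 (by decide +kernel)
/-- A strong generator. -/
noncomputable def RU23 : G := (RU19)⁻¹ * ((RU20)⁻¹ * ((RU19) * ((RU13) * ((RU16)))))
/-- The code of a strong generator. -/
noncomputable def cRU23 : ℕ → ℕ := pgetS 12 4095 TRU23
/-- The inverse code of a strong generator. -/
noncomputable def ciRU23 : ℕ → ℕ := pgetS 12 4095 TIU23
set_option maxRecDepth 100000 in
theorem code_RU23 : E.IsCode ((RU23 : G) : Equiv.Perm (Fin N)) (cRU23) :=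
  congr_of_chk (coe_code_mul codei_RU19 (coe_code_mul codei_RU20 (coe_code_mul code_RU19 (coe_code_mul code_RU13 (code_RU16))))) (by decide +kernel)
set_option maxRecDepth 100000 in
theorem codei_RU23 : E.IsCode ((RU23⁻¹ : G) : Equiv.Perm (Fin N)) (ciRU23) :=
  inv_of_chk code_RU23 (by decide +kernel)
/-- A strong generator. -/
noncomputable def RU24 : G := (RU19)⁻¹ * ((RU15)⁻¹ * ((RU17) * ((RU13) * ((RU19) * ((RU16))))))
/-- The code of a strong generator. -/
noncomputable def cRU24 : ℕ → ℕ := pgetS 12 4095 TRU24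
/-- The inverse code of a strong generator. -/
noncomputable def ciRU24 : ℕ → ℕ := pgetS 12 4095 TIU24
set_option maxRecDepth 100000 in
theorem code_RU24 : E.IsCode ((RU24 : G) : Equiv.Perm (Fin N)) (cRU24) :=
  congr_of_chk (coe_code_mul codei_RU19 (coe_code_mul codei_RU15 (coe_code_mul code_RU17 (coe_code_mul code_RU13 (coe_code_mul code_RU19 (code_RU16)))))) (by decide +kernel)
set_option maxRecDepth 100000 in
theorem codei_RU24 : E.IsCode ((RU24⁻¹ : G) : Equiv.Perm (Fin N)) (ciRU24) :=
  inv_of_chk code_RU24 (by decide +kernel)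
/-- A strong generator. -/
noncomputable def RU25 : G := (RU18)⁻¹ * ((RU13)⁻¹ * ((RU19)⁻¹ * ((RU14) * ((RU19) * ((RU13) * ((RU18)))))))
/-- The code of a strong generator. -/
noncomputable def cRU25 : ℕ → ℕ := pgetS 12 4095 TRU25
/-- The inverse code of a strong generator. -/
noncomputable def ciRU25 : ℕ → ℕ := pgetS 12 4095 TIU25
set_option maxRecDepth 100000 in
theorem code_RU25 : E.IsCode ((RU25 : G) : Equiv.Perm (Fin N)) (cRU25) :=
  congr_of_chk (coe_code_mul codei_RU18 (coe_code_mul codei_RU13 (coe_code_mul codei_RU19 (coe_code_mul code_RU14 (coe_code_mul code_RU19 (coe_code_mul code_RU13 (code_RU18))))))) (by decide +kernel)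
set_option maxRecDepth 100000 in
theorem codei_RU25 : E.IsCode ((RU25⁻¹ : G) : Equiv.Perm (Fin N)) (ciRU25) :=
  inv_of_chk code_RU25 (by decide +kernel)
/-- A strong generator. -/
noncomputable def RU26 : G := (RU14)⁻¹ * ((RU19)⁻¹ * ((RU15)⁻¹ * ((RU17) * ((RU19) * ((RU19))))))
/-- The code of a strong generator. -/
noncomputable def cRU26 : ℕ → ℕ := pgetS 12 4095 TRU26
/-- The inverse code of a strong generator. -/
noncomputable def ciRU26 : ℕ → ℕ := pgetS 12 4095 TIU26
set_option maxRecDepth 100000 in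
theorem code_RU26 : E.IsCode ((RU26 : G) : Equiv.Perm (Fin N)) (cRU26) :=
  congr_of_chk (coe_code_mul codei_RU14 (coe_code_mul codei_RU19 (coe_code_mul codei_RU15 (coe_code_mul code_RU17 (coe_code_mul code_RU19 (code_RU19)))))) (by decide +kernel)
set_option maxRecDepth 100000 in
theorem codei_RU26 : E.IsCode ((RU26⁻¹ : G) : Equiv.Perm (Fin N)) (ciRU26) :=
  inv_of_chk code_RU26 (by decide +kernel)
/-- A strong generator. -/
noncomputable def RU27 : G := (RU21)
/-- The code of a strong generator. -/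
noncomputable def cRU27 : ℕ → ℕ := pgetS 12 4095 TRU27
/-- The inverse code of a strong generator. -/
noncomputable def ciRU27 : ℕ → ℕ := pgetS 12 4095 TIU27
set_option maxRecDepth 100000 in
theorem code_RU27 : E.IsCode ((RU27 : G) : Equiv.Perm (Fin N)) (cRU27) :=
  congr_of_chk (code_RU21) (by decide +kernel)
set_option maxRecDepth 100000 in
theorem codei_RU27 : E.IsCode ((RU27⁻¹ : G) : Equiv.Perm (Fin N)) (ciRU27) :=
  inv_of_chk code_RU27 (by decide +kernel)
/-- A strong generator. -/
noncomputable def RU28 : G := (RU22)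
/-- The code of a strong generator. -/
noncomputable def cRU28 : ℕ → ℕ := pgetS 12 4095 TRU28
/-- The inverse code of a strong generator. -/
noncomputable def ciRU28 : ℕ → ℕ := pgetS 12 4095 TIU28
set_option maxRecDepth 100000 in
theorem code_RU28 : E.IsCode ((RU28 : G) : Equiv.Perm (Fin N)) (cRU28) :=
  congr_of_chk (code_RU22) (by decide +kernel)
set_option maxRecDepth 100000 in
theorem codei_RU28 : E.IsCode ((RU28⁻¹ : G) : Equiv.Perm (Fin N)) (ciRU28) :=
  inv_of_chk code_RU28 (by decide +kernel)
/-- A strong generator. -/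
noncomputable def RU29 : G := (RU23)
/-- The code of a strong generator. -/
noncomputable def cRU29 : ℕ → ℕ := pgetS 12 4095 TRU29
/-- The inverse code of a strong generator. -/
noncomputable def ciRU29 : ℕ → ℕ := pgetS 12 4095 TIU29
set_option maxRecDepth 100000 in
theorem code_RU29 : E.IsCode ((RU29 : G) : Equiv.Perm (Fin N)) (cRU29) :=
  congr_of_chk (code_RU23) (by decide +kernel)
set_option maxRecDepth 100000 in
theorem codei_RU29 : E.IsCode ((RU29⁻¹ : G) : Equiv.Perm (Fin N)) (ciRU29) :=
  inv_of_chk code_RU29 (by decide +kernel)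
/-- A strong generator. -/
noncomputable def RU30 : G := (RU24)
/-- The code of a strong generator. -/
noncomputable def cRU30 : ℕ → ℕ := pgetS 12 4095 TRU30
/-- The inverse code of a strong generator. -/
noncomputable def ciRU30 : ℕ → ℕ := pgetS 12 4095 TIU30
set_option maxRecDepth 100000 in
theorem code_RU30 : E.IsCode ((RU30 : G) : Equiv.Perm (Fin N)) (cRU30) :=
  congr_of_chk (code_RU24) (by decide +kernel)
set_option maxRecDepth 100000 in
theorem codei_RU30 : E.IsCode ((RU30⁻¹ : G) : Equiv.Perm (Fin N)) (ciRU30) :=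
  inv_of_chk code_RU30 (by decide +kernel)
/-- A strong generator. -/
noncomputable def RU31 : G := (RU25)
/-- The code of a strong generator. -/
noncomputable def cRU31 : ℕ → ℕ := pgetS 12 4095 TRU31
/-- The inverse code of a strong generator. -/
noncomputable def ciRU31 : ℕ → ℕ := pgetS 12 4095 TIU31
set_option maxRecDepth 100000 in
theorem code_RU31 : E.IsCode ((RU31 : G) : Equiv.Perm (Fin N)) (cRU31) :=
  congr_of_chk (code_RU25) (by decide +kernel)
set_option maxRecDepth 100000 in
theorem codei_RU31 : E.IsCode ((RU31⁻¹ : G) : Equiv.Perm (Fin N)) (ciRU31) :=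
  inv_of_chk code_RU31 (by decide +kernel)
/-- A strong generator. -/
noncomputable def RU32 : G := (RU26)⁻¹ * ((RU23) * ((RU26)))
/-- The code of a strong generator. -/
noncomputable def cRU32 : ℕ → ℕ := pgetS 12 4095 TRU32
/-- The inverse code of a strong generator. -/
noncomputable def ciRU32 : ℕ → ℕ := pgetS 12 4095 TIU32
set_option maxRecDepth 100000 in
theorem code_RU32 : E.IsCode ((RU32 : G) : Equiv.Perm (Fin N)) (cRU32) :=
  congr_of_chk (coe_code_mul codei_RU26 (coe_code_mul code_RU23 (code_RU26))) (by decide +kernel)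
set_option maxRecDepth 100000 in
theorem codei_RU32 : E.IsCode ((RU32⁻¹ : G) : Equiv.Perm (Fin N)) (ciRU32) :=
  inv_of_chk code_RU32 (by decide +kernel)
/-- A strong generator. -/
noncomputable def RU33 : G := (RU26)⁻¹ * ((RU26)⁻¹ * ((RU23) * ((RU26) * ((RU26)))))
/-- The code of a strong generator. -/
noncomputable def cRU33 : ℕ → ℕ := pgetS 12 4095 TRU33
/-- The inverse code of a strong generator. -/
noncomputable def ciRU33 : ℕ → ℕ := pgetS 12 4095 TIU33
set_option maxRecDepth 100000 in
theorem code_RU33 : E.IsCode ((RU33 : G) : Equiv.Perm (Fin N)) (cRU33) :=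
  congr_of_chk (coe_code_mul codei_RU26 (coe_code_mul codei_RU26 (coe_code_mul code_RU23 (coe_code_mul code_RU26 (code_RU26))))) (by decide +kernel)
set_option maxRecDepth 100000 in
theorem codei_RU33 : E.IsCode ((RU33⁻¹ : G) : Equiv.Perm (Fin N)) (ciRU33) :=
  inv_of_chk code_RU33 (by decide +kernel)
/-- A strong generator. -/
noncomputable def RU34 : G := (RU26)⁻¹ * ((RU25)⁻¹ * ((RU26)⁻¹ * ((RU21)⁻¹ * ((RU23)⁻¹ * ((RU25)⁻¹ * ((RU26) * ((RU25) * ((RU26) * ((RU23) * ((RU21) * ((RU25) * ((RU26)))))))))))))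
/-- The code of a strong generator. -/
noncomputable def cRU34 : ℕ → ℕ := pgetS 12 4095 TRU34
/-- The inverse code of a strong generator. -/
noncomputable def ciRU34 : ℕ → ℕ := pgetS 12 4095 TIU34
set_option maxRecDepth 100000 in
theorem code_RU34 : E.IsCode ((RU34 : G) : Equiv.Perm (Fin N)) (cRU34) :=
  congr_of_chk (coe_code_mul codei_RU26 (coe_code_mul codei_RU25 (coe_code_mul codei_RU26 (coe_code_mul codei_RU21 (coe_code_mul codei_RU23 (coe_code_mul codei_RU25 (coe_code_mul code_RU26 (coe_code_mul code_RU25 (coe_code_mul code_RU26 (coe_code_mul code_RU23 (coe_code_mul code_RU21 (coe_code_mul code_RU25 (code_RU26))))))))))))) (by decide +kernel)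
set_option maxRecDepth 100000 in
theorem codei_RU34 : E.IsCode ((RU34⁻¹ : G) : Equiv.Perm (Fin N)) (ciRU34) :=
  inv_of_chk code_RU34 (by decide +kernel)
/-- A strong generator. -/
noncomputable def RU35 : G := (RU27)
/-- The code of a strong generator. -/
noncomputable def cRU35 : ℕ → ℕ := pgetS 12 4095 TRU35
/-- The inverse code of a strong generator. -/
noncomputable def ciRU35 : ℕ → ℕ := pgetS 12 4095 TIU35
set_option maxRecDepth 100000 in
theorem code_RU35 : E.IsCode ((RU35 : G) : Equiv.Perm (Fin N)) (cRU35) :=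
  congr_of_chk (code_RU27) (by decide +kernel)
set_option maxRecDepth 100000 in
theorem codei_RU35 : E.IsCode ((RU35⁻¹ : G) : Equiv.Perm (Fin N)) (ciRU35) :=
  inv_of_chk code_RU35 (by decide +kernel)
/-- A strong generator. -/
noncomputable def RU36 : G := (RU28)
/-- The code of a strong generator. -/
noncomputable def cRU36 : ℕ → ℕ := pgetS 12 4095 TRU36
/-- The inverse code of a strong generator. -/
noncomputable def ciRU36 : ℕ → ℕ := pgetS 12 4095 TIU36
set_option maxRecDepth 100000 in
theorem code_RU36 : E.IsCode ((RU36 : G) : Equiv.Perm (Fin N)) (cRU36) :=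
  congr_of_chk (code_RU28) (by decide +kernel)
set_option maxRecDepth 100000 in
theorem codei_RU36 : E.IsCode ((RU36⁻¹ : G) : Equiv.Perm (Fin N)) (ciRU36) :=
  inv_of_chk code_RU36 (by decide +kernel)
/-- A strong generator. -/
noncomputable def RU37 : G := (RU29)
/-- The code of a strong generator. -/
noncomputable def cRU37 : ℕ → ℕ := pgetS 12 4095 TRU37
/-- The inverse code of a strong generator. -/
noncomputable def ciRU37 : ℕ → ℕ := pgetS 12 4095 TIU37
set_option maxRecDepth 100000 in
theorem code_RU37 : E.IsCode ((RU37 : G) : Equiv.Perm (Fin N)) (cRU37) :=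
  congr_of_chk (code_RU29) (by decide +kernel)
set_option maxRecDepth 100000 in
theorem codei_RU37 : E.IsCode ((RU37⁻¹ : G) : Equiv.Perm (Fin N)) (ciRU37) :=
  inv_of_chk code_RU37 (by decide +kernel)
/-- A strong generator. -/
noncomputable def RU38 : G := (RU30)
/-- The code of a strong generator. -/
noncomputable def cRU38 : ℕ → ℕ := pgetS 12 4095 TRU38
/-- The inverse code of a strong generator. -/
noncomputable def ciRU38 : ℕ → ℕ := pgetS 12 4095 TIU38
set_option maxRecDepth 100000 in
theorem code_RU38 : E.IsCode ((RU38 : G) : Equiv.Perm (Fin N)) (cRU38) :=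
  congr_of_chk (code_RU30) (by decide +kernel)
set_option maxRecDepth 100000 in
theorem codei_RU38 : E.IsCode ((RU38⁻¹ : G) : Equiv.Perm (Fin N)) (ciRU38) :=
  inv_of_chk code_RU38 (by decide +kernel)
/-- A strong generator. -/
noncomputable def RU39 : G := (RU32)
/-- The code of a strong generator. -/
noncomputable def cRU39 : ℕ → ℕ := pgetS 12 4095 TRU39
/-- The inverse code of a strong generator. -/
noncomputable def ciRU39 : ℕ → ℕ := pgetS 12 4095 TIU39
set_option maxRecDepth 100000 in
theorem code_RU39 : E.IsCode ((RU39 : G) : Equiv.Perm (Fin N)) (cRU39) :=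
  congr_of_chk (code_RU32) (by decide +kernel)
set_option maxRecDepth 100000 in
theorem codei_RU39 : E.IsCode ((RU39⁻¹ : G) : Equiv.Perm (Fin N)) (ciRU39) :=
  inv_of_chk code_RU39 (by decide +kernel)
/-- A strong generator. -/
noncomputable def RU40 : G := (RU33)
/-- The code of a strong generator. -/
noncomputable def cRU40 : ℕ → ℕ := pgetS 12 4095 TRU40
/-- The inverse code of a strong generator. -/
noncomputable def ciRU40 : ℕ → ℕ := pgetS 12 4095 TIU40
set_option maxRecDepth 100000 in
theorem code_RU40 : E.IsCode ((RU40 : G) : Equiv.Perm (Fin N)) (cRU40) :=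
  congr_of_chk (code_RU33) (by decide +kernel)
set_option maxRecDepth 100000 in
theorem codei_RU40 : E.IsCode ((RU40⁻¹ : G) : Equiv.Perm (Fin N)) (ciRU40) :=
  inv_of_chk code_RU40 (by decide +kernel)
/-- A strong generator. -/
noncomputable def RU41 : G := (RU31)⁻¹ * ((RU27)⁻¹ * ((RU29)⁻¹ * ((RU31) * ((RU29) * ((RU27) * ((RU31)))))))
/-- The code of a strong generator. -/
noncomputable def cRU41 : ℕ → ℕ := pgetS 12 4095 TRU41
/-- The inverse code of a strong generator. -/
noncomputable def ciRU41 : ℕ → ℕ := pgetS 12 4095 TIU41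
set_option maxRecDepth 100000 in
theorem code_RU41 : E.IsCode ((RU41 : G) : Equiv.Perm (Fin N)) (cRU41) :=
  congr_of_chk (coe_code_mul codei_RU31 (coe_code_mul codei_RU27 (coe_code_mul codei_RU29 (coe_code_mul code_RU31 (coe_code_mul code_RU29 (coe_code_mul code_RU27 (code_RU31))))))) (by decide +kernel)
set_option maxRecDepth 100000 in
theorem codei_RU41 : E.IsCode ((RU41⁻¹ : G) : Equiv.Perm (Fin N)) (ciRU41) :=
  inv_of_chk code_RU41 (by decide +kernel)
/-- A strong generator. -/
noncomputable def RU42 : G := (RU31)⁻¹ * ((RU27)⁻¹ * ((RU32)⁻¹ * ((RU31) * ((RU32) * ((RU27) * ((RU31)))))))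
/-- The code of a strong generator. -/
noncomputable def cRU42 : ℕ → ℕ := pgetS 12 4095 TRU42
/-- The inverse code of a strong generator. -/
noncomputable def ciRU42 : ℕ → ℕ := pgetS 12 4095 TIU42
set_option maxRecDepth 100000 in
theorem code_RU42 : E.IsCode ((RU42 : G) : Equiv.Perm (Fin N)) (cRU42) :=
  congr_of_chk (coe_code_mul codei_RU31 (coe_code_mul codei_RU27 (coe_code_mul codei_RU32 (coe_code_mul code_RU31 (coe_code_mul code_RU32 (coe_code_mul code_RU27 (code_RU31))))))) (by decide +kernel)
set_option maxRecDepth 100000 in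
theorem codei_RU42 : E.IsCode ((RU42⁻¹ : G) : Equiv.Perm (Fin N)) (ciRU42) :=
  inv_of_chk code_RU42 (by decide +kernel)
/-- A strong generator. -/
noncomputable def RU43 : G := (RU31)⁻¹ * ((RU28)⁻¹ * ((RU29)⁻¹ * ((RU31)⁻¹ * ((RU32) * ((RU31) * ((RU29) * ((RU28) * ((RU31)))))))))
/-- The code of a strong generator. -/
noncomputable def cRU43 : ℕ → ℕ := pgetS 12 4095 TRU43
/-- The inverse code of a strong generator. -/
noncomputable def ciRU43 : ℕ → ℕ := pgetS 12 4095 TIU43
set_option maxRecDepth 100000 in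
theorem code_RU43 : E.IsCode ((RU43 : G) : Equiv.Perm (Fin N)) (cRU43) :=
  congr_of_chk (coe_code_mul codei_RU31 (coe_code_mul codei_RU28 (coe_code_mul codei_RU29 (coe_code_mul codei_RU31 (coe_code_mul code_RU32 (coe_code_mul code_RU31 (coe_code_mul code_RU29 (coe_code_mul code_RU28 (code_RU31))))))))) (by decide +kernel)
set_option maxRecDepth 100000 in
theorem codei_RU43 : E.IsCode ((RU43⁻¹ : G) : Equiv.Perm (Fin N)) (ciRU43) :=
  inv_of_chk code_RU43 (by decide +kernel)
/-- A strong generator. -/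
noncomputable def RU44 : G := (RU31)⁻¹ * ((RU28)⁻¹ * ((RU29)⁻¹ * ((RU31)⁻¹ * ((RU33) * ((RU31) * ((RU29) * ((RU28) * ((RU31)))))))))
/-- The code of a strong generator. -/
noncomputable def cRU44 : ℕ → ℕ := pgetS 12 4095 TRU44
/-- The inverse code of a strong generator. -/
noncomputable def ciRU44 : ℕ → ℕ := pgetS 12 4095 TIU44
set_option maxRecDepth 100000 in
theorem code_RU44 : E.IsCode ((RU44 : G) : Equiv.Perm (Fin N)) (cRU44) :=
  congr_of_chk (coe_code_mul codei_RU31 (coe_code_mul codei_RU28 (coe_code_mul codei_RU29 (coe_code_mul codei_RU31 (coe_code_mul code_RU33 (coe_code_mul code_RU31 (coe_code_mul code_RU29 (coe_code_mul code_RU28 (code_RU31))))))))) (by decide +kernel)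
set_option maxRecDepth 100000 in
theorem codei_RU44 : E.IsCode ((RU44⁻¹ : G) : Equiv.Perm (Fin N)) (ciRU44) :=
  inv_of_chk code_RU44 (by decide +kernel)
/-- A strong generator. -/
noncomputable def RU45 : G := (RU34)⁻¹ * ((RU31) * ((RU27) * ((RU31))))
/-- The code of a strong generator. -/
noncomputable def cRU45 : ℕ → ℕ := pgetS 12 4095 TRU45
/-- The inverse code of a strong generator. -/
noncomputable def ciRU45 : ℕ → ℕ := pgetS 12 4095 TIU45
set_option maxRecDepth 100000 in
theorem code_RU45 : E.IsCode ((RU45 : G) : Equiv.Perm (Fin N)) (cRU45) :=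
  congr_of_chk (coe_code_mul codei_RU34 (coe_code_mul code_RU31 (coe_code_mul code_RU27 (code_RU31)))) (by decide +kernel)
set_option maxRecDepth 100000 in
theorem codei_RU45 : E.IsCode ((RU45⁻¹ : G) : Equiv.Perm (Fin N)) (ciRU45) :=
  inv_of_chk code_RU45 (by decide +kernel)
/-- A strong generator. -/
noncomputable def RU46 : G := (RU38)
/-- The code of a strong generator. -/
noncomputable def cRU46 : ℕ → ℕ := pgetS 12 4095 TRU46
/-- The inverse code of a strong generator. -/
noncomputable def ciRU46 : ℕ → ℕ := pgetS 12 4095 TIU46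
set_option maxRecDepth 100000 in
theorem code_RU46 : E.IsCode ((RU46 : G) : Equiv.Perm (Fin N)) (cRU46) :=
  congr_of_chk (code_RU38) (by decide +kernel)
set_option maxRecDepth 100000 in
theorem codei_RU46 : E.IsCode ((RU46⁻¹ : G) : Equiv.Perm (Fin N)) (ciRU46) :=
  inv_of_chk code_RU46 (by decide +kernel)
/-- A strong generator. -/
noncomputable def RU47 : G := (RU35)⁻¹ * ((RU37) * ((RU41)))
/-- The code of a strong generator. -/
noncomputable def cRU47 : ℕ → ℕ := pgetS 12 4095 TRU47
/-- The inverse code of a strong generator. -/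
noncomputable def ciRU47 : ℕ → ℕ := pgetS 12 4095 TIU47
set_option maxRecDepth 100000 in
theorem code_RU47 : E.IsCode ((RU47 : G) : Equiv.Perm (Fin N)) (cRU47) :=
  congr_of_chk (coe_code_mul codei_RU35 (coe_code_mul code_RU37 (code_RU41))) (by decide +kernel)
set_option maxRecDepth 100000 in
theorem codei_RU47 : E.IsCode ((RU47⁻¹ : G) : Equiv.Perm (Fin N)) (ciRU47) :=
  inv_of_chk code_RU47 (by decide +kernel)
/-- A strong generator. -/
noncomputable def RU48 : G := (RU39)⁻¹ * ((RU35) * ((RU42)))
/-- The code of a strong generator. -/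
noncomputable def cRU48 : ℕ → ℕ := pgetS 12 4095 TRU48
/-- The inverse code of a strong generator. -/
noncomputable def ciRU48 : ℕ → ℕ := pgetS 12 4095 TIU48
set_option maxRecDepth 100000 in
theorem code_RU48 : E.IsCode ((RU48 : G) : Equiv.Perm (Fin N)) (cRU48) :=
  congr_of_chk (coe_code_mul codei_RU39 (coe_code_mul code_RU35 (code_RU42))) (by decide +kernel)
set_option maxRecDepth 100000 in
theorem codei_RU48 : E.IsCode ((RU48⁻¹ : G) : Equiv.Perm (Fin N)) (ciRU48) :=
  inv_of_chk code_RU48 (by decide +kernel)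
/-- A strong generator. -/
noncomputable def RU49 : G := (RU39)⁻¹ * ((RU43) * ((RU37) * ((RU36))))
/-- The code of a strong generator. -/
noncomputable def cRU49 : ℕ → ℕ := pgetS 12 4095 TRU49
/-- The inverse code of a strong generator. -/
noncomputable def ciRU49 : ℕ → ℕ := pgetS 12 4095 TIU49
set_option maxRecDepth 100000 in
theorem code_RU49 : E.IsCode ((RU49 : G) : Equiv.Perm (Fin N)) (cRU49) :=
  congr_of_chk (coe_code_mul codei_RU39 (coe_code_mul code_RU43 (coe_code_mul code_RU37 (code_RU36)))) (by decide +kernel)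
set_option maxRecDepth 100000 in
theorem codei_RU49 : E.IsCode ((RU49⁻¹ : G) : Equiv.Perm (Fin N)) (ciRU49) :=
  inv_of_chk code_RU49 (by decide +kernel)
/-- A strong generator. -/
noncomputable def RU50 : G := (RU36)⁻¹ * ((RU37)⁻¹ * ((RU45) * ((RU36))))
/-- The code of a strong generator. -/
noncomputable def cRU50 : ℕ → ℕ := pgetS 12 4095 TRU50
/-- The inverse code of a strong generator. -/
noncomputable def ciRU50 : ℕ → ℕ := pgetS 12 4095 TIU50
set_option maxRecDepth 100000 in
theorem code_RU50 : E.IsCode ((RU50 : G) : Equiv.Perm (Fin N)) (cRU50) :=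
  congr_of_chk (coe_code_mul codei_RU36 (coe_code_mul codei_RU37 (coe_code_mul code_RU45 (code_RU36)))) (by decide +kernel)
set_option maxRecDepth 100000 in
theorem codei_RU50 : E.IsCode ((RU50⁻¹ : G) : Equiv.Perm (Fin N)) (ciRU50) :=
  inv_of_chk code_RU50 (by decide +kernel)
/-- A strong generator. -/
noncomputable def RU51 : G := (RU46)
/-- The code of a strong generator. -/
noncomputable def cRU51 : ℕ → ℕ := pgetS 12 4095 TRU51
/-- The inverse code of a strong generator. -/
noncomputable def ciRU51 : ℕ → ℕ := pgetS 12 4095 TIU51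
set_option maxRecDepth 100000 in
theorem code_RU51 : E.IsCode ((RU51 : G) : Equiv.Perm (Fin N)) (cRU51) :=
  congr_of_chk (code_RU46) (by decide +kernel)
set_option maxRecDepth 100000 in
theorem codei_RU51 : E.IsCode ((RU51⁻¹ : G) : Equiv.Perm (Fin N)) (ciRU51) :=
  inv_of_chk code_RU51 (by decide +kernel)
/-- A strong generator. -/
noncomputable def RU52 : G := (RU47)
/-- The code of a strong generator. -/
noncomputable def cRU52 : ℕ → ℕ := pgetS 12 4095 TRU52
/-- The inverse code of a strong generator. -/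
noncomputable def ciRU52 : ℕ → ℕ := pgetS 12 4095 TIU52
set_option maxRecDepth 100000 in
theorem code_RU52 : E.IsCode ((RU52 : G) : Equiv.Perm (Fin N)) (cRU52) :=
  congr_of_chk (code_RU47) (by decide +kernel)
set_option maxRecDepth 100000 in
theorem codei_RU52 : E.IsCode ((RU52⁻¹ : G) : Equiv.Perm (Fin N)) (ciRU52) :=
  inv_of_chk code_RU52 (by decide +kernel)
/-- A strong generator. -/
noncomputable def RU53 : G := (RU48)
/-- The code of a strong generator. -/
noncomputable def cRU53 : ℕ → ℕ := pgetS 12 4095 TRU53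
/-- The inverse code of a strong generator. -/
noncomputable def ciRU53 : ℕ → ℕ := pgetS 12 4095 TIU53
set_option maxRecDepth 100000 in
theorem code_RU53 : E.IsCode ((RU53 : G) : Equiv.Perm (Fin N)) (cRU53) :=
  congr_of_chk (code_RU48) (by decide +kernel)
set_option maxRecDepth 100000 in
theorem codei_RU53 : E.IsCode ((RU53⁻¹ : G) : Equiv.Perm (Fin N)) (ciRU53) :=
  inv_of_chk code_RU53 (by decide +kernel)
/-- A strong generator. -/
noncomputable def RU54 : G := (RU49)
/-- The code of a strong generator. -/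
noncomputable def cRU54 : ℕ → ℕ := pgetS 12 4095 TRU54
/-- The inverse code of a strong generator. -/
noncomputable def ciRU54 : ℕ → ℕ := pgetS 12 4095 TIU54
set_option maxRecDepth 100000 in
theorem code_RU54 : E.IsCode ((RU54 : G) : Equiv.Perm (Fin N)) (cRU54) :=
  congr_of_chk (code_RU49) (by decide +kernel)
set_option maxRecDepth 100000 in
theorem codei_RU54 : E.IsCode ((RU54⁻¹ : G) : Equiv.Perm (Fin N)) (ciRU54) :=
  inv_of_chk code_RU54 (by decide +kernel)
/-- A strong generator. -/
noncomputable def RU55 : G := (RU50)⁻¹ * ((RU46) * ((RU50)))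
/-- The code of a strong generator. -/
noncomputable def cRU55 : ℕ → ℕ := pgetS 12 4095 TRU55
/-- The inverse code of a strong generator. -/
noncomputable def ciRU55 : ℕ → ℕ := pgetS 12 4095 TIU55
set_option maxRecDepth 100000 in
theorem code_RU55 : E.IsCode ((RU55 : G) : Equiv.Perm (Fin N)) (cRU55) :=
  congr_of_chk (coe_code_mul codei_RU50 (coe_code_mul code_RU46 (code_RU50))) (by decide +kernel)
set_option maxRecDepth 100000 in
theorem codei_RU55 : E.IsCode ((RU55⁻¹ : G) : Equiv.Perm (Fin N)) (ciRU55) :=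
  inv_of_chk code_RU55 (by decide +kernel)
/-- A strong generator. -/
noncomputable def RU56 : G := (RU52)⁻¹ * ((RU53) * ((RU51)))
/-- The code of a strong generator. -/
noncomputable def cRU56 : ℕ → ℕ := pgetS 12 4095 TRU56
/-- The inverse code of a strong generator. -/
noncomputable def ciRU56 : ℕ → ℕ := pgetS 12 4095 TIU56
set_option maxRecDepth 100000 in
theorem code_RU56 : E.IsCode ((RU56 : G) : Equiv.Perm (Fin N)) (cRU56) :=
  congr_of_chk (coe_code_mul codei_RU52 (coe_code_mul code_RU53 (code_RU51))) (by decide +kernel)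
set_option maxRecDepth 100000 in
theorem codei_RU56 : E.IsCode ((RU56⁻¹ : G) : Equiv.Perm (Fin N)) (ciRU56) :=
  inv_of_chk code_RU56 (by decide +kernel)
/-- A strong generator. -/
noncomputable def RU57 : G := (RU55) * ((RU52))
/-- The code of a strong generator. -/
noncomputable def cRU57 : ℕ → ℕ := pgetS 12 4095 TRU57
/-- The inverse code of a strong generator. -/
noncomputable def ciRU57 : ℕ → ℕ := pgetS 12 4095 TIU57
set_option maxRecDepth 100000 in
theorem code_RU57 : E.IsCode ((RU57 : G) : Equiv.Perm (Fin N)) (cRU57) :=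
  congr_of_chk (coe_code_mul code_RU55 (code_RU52)) (by decide +kernel)
set_option maxRecDepth 100000 in
theorem codei_RU57 : E.IsCode ((RU57⁻¹ : G) : Equiv.Perm (Fin N)) (ciRU57) :=
  inv_of_chk code_RU57 (by decide +kernel)
/-- A strong generator. -/
noncomputable def RU58 : G := (RU56)
/-- The code of a strong generator. -/
noncomputable def cRU58 : ℕ → ℕ := pgetS 12 4095 TRU58
/-- The inverse code of a strong generator. -/
noncomputable def ciRU58 : ℕ → ℕ := pgetS 12 4095 TIU58
set_option maxRecDepth 100000 in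
theorem code_RU58 : E.IsCode ((RU58 : G) : Equiv.Perm (Fin N)) (cRU58) :=
  congr_of_chk (code_RU56) (by decide +kernel)
set_option maxRecDepth 100000 in
theorem codei_RU58 : E.IsCode ((RU58⁻¹ : G) : Equiv.Perm (Fin N)) (ciRU58) :=
  inv_of_chk code_RU58 (by decide +kernel)

end Cfsg.Agent.Lib.KnownSimple.Fi22P
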